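import Cfsg.Agent.Lib.J2Uniq.Iso
import Cfsg.Agent.Lib.J2.UThree

/-!
Uniqueness of the Hall–Janko group from the centraliser of an involution.
-/

set_option autoImplicit false

namespace CfsgLib.J2Uniq

universe u

variable {G : Type u} [Group G] [Finite G] [IsSimpleGroup G]

theorem iso_of_centralizer (t : G) (ht : orderOf t = 2) (Q : Subgroup (Subgroup.centralizer ({t} : Set G)))
    [Q.Normal] (hQ : Cfsg.IsExtraspecial 2 Q) (hcard : Nat.card Q = 32)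
    (h2c : Subgroup.centralizer (Q : Set (Subgroup.centralizer ({t} : Set G))) ≤ Q)
    (e : (Subgroup.centralizer ({t} : Set G)) ⧸ Q ≃* alternatingGroup (Fin 5))
    (htwo : ∃ x y : G, orderOf x = 2 ∧ orderOf y = 2 ∧ ¬ IsConj x y ∧
      ∀ z : G, orderOf z = 2 → IsConj z x ∨ IsConj z y) : Cfsg.Spor.IsoJ2 G := by
  have hgfs := gfs_eq Q hcard h2c e
  obtain ⟨ω⟩ := J2Type.omega_equiv_alt5
  obtain ⟨a, b, ha, hb, hab, -⟩ := htwo
  have hc : Nat.card Q = 2 ^ 5 := by rw [hcard]; norm_num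
  have hn := not_weakly_closed t ht Q hgfs hQ hc (e.trans ω.symm) ⟨a, b, ha, hb, hab⟩
  obtain ⟨K, H⟩ := J2Type.exists_hyp t ht _ (fun _ => Subgroup.mem_centralizer_singleton_iff) Q hgfs hQ hc
    (e.trans ω.symm) hn ⟨a, b, ha, hb, hab⟩
  exact iso_of_hyp H

theorem psu_of_centralizer (t : G) (ht : orderOf t = 2) (Q : Subgroup (Subgroup.centralizer ({t} : Set G)))
    [Q.Normal] (hQ : Cfsg.IsExtraspecial 2 Q) (hcard : Nat.card Q = 32)
    (h2c : Subgroup.centralizer (Q : Set (Subgroup.centralizer ({t} : Set G))) ≤ Q)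
    (e : (Subgroup.centralizer ({t} : Set G)) ⧸ Q ≃* alternatingGroup (Fin 5))
    (htwo : ∃ x y : G, orderOf x = 2 ∧ orderOf y = 2 ∧ ¬ IsConj x y ∧
      ∀ z : G, orderOf z = 2 → IsConj z x ∨ IsConj z y) :
    ∃ (H : Subgroup G) (K : Type) (_ : Field K) (_ : Fintype K), Fintype.card K = 9 ∧
      Nonempty (H ≃* Cfsg.PSU 3 K 3) := by
  obtain ⟨φ⟩ := iso_of_centralizer t ht Q hQ hcard h2c e htwo
  obtain ⟨L, -, ⟨F, fF, tF, hF, ⟨ψ⟩⟩, -⟩ := CfsgLib.J2.UThree.index_hundred_psu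
  refine ⟨L.map φ.symm.toMonoidHom, F, fF, tF, hF, ⟨?_⟩⟩
  exact (φ.symm.subgroupMap L).symm.trans ψ

end CfsgLib.J2Uniq
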