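import Cfsg.Agent.Lib.J2Type.Classes
import Cfsg.Agent.Lib.Layer.Characteristic
import Cfsg.Agent.Lib.ZStar.Main

/-!
A simple group with two classes of involutions and centraliser `2^(1+4) . A5` of an involution `z`:
the involution is not weakly closed in the extraspecial subgroup.
-/

set_option autoImplicit false

open scoped Classical

namespace CfsgLib.J2Uniq

open CfsgLib.J2Type CfsgLib.J2Order

variable {G : Type*} [Group G] [Finite G]

theorem gfs_eq {C : Type*} [Group C] [Finite C] (Q : Subgroup C) [hn : Q.Normal] (hcard : Nat.card Q = 32)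
    (h2c : Subgroup.centralizer (Q : Set C) ≤ Q) (e : C ⧸ Q ≃* alternatingGroup (Fin 5)) :
    Cfsg.generalizedFittingSubgroup C = Q := by
  haveI : Fact (Nat.Prime 2) := ⟨Nat.prime_two⟩
  have hQp : IsPGroup 2 Q := IsPGroup.of_card (n := 5) hcard
  have hle : Q ≤ Cfsg.pCore 2 C := Fitting.le_pCore inferInstance hQp
  have hge : Cfsg.pCore 2 C ≤ Q := by
    intro x hx
    let π : C →* alternatingGroup (Fin 5) := e.toMonoidHom.comp (QuotientGroup.mk' Q)
    have hs : Function.Surjective π := e.surjective.comp (QuotientGroup.mk'_surjective Q)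
    haveI : (Cfsg.pCore 2 C).Normal := Fitting.pCore_normal 2
    haveI : ((Cfsg.pCore 2 C).map π).Normal := Subgroup.Normal.map inferInstance π hs
    rcases Subgroup.Normal.eq_bot_or_eq_top (inferInstance : ((Cfsg.pCore 2 C).map π).Normal) with h | h
    · have h1 : π x = 1 := by rw [← Subgroup.mem_bot, ← h]; exact ⟨x, hx, rfl⟩
      have h2 : QuotientGroup.mk' Q x = 1 := e.injective (h1.trans (map_one e).symm)
      exact (QuotientGroup.eq_one_iff x).1 h2
    · exfalso
      have hd := Subgroup.card_map_dvd (Cfsg.pCore 2 C) π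
      rw [h, Subgroup.card_top, card_alt5] at hd
      obtain ⟨n, hn'⟩ := IsPGroup.iff_card.1 (Fitting.pCore_isPGroup (p := 2) (G := C))
      rw [hn'] at hd
      have := Nat.prime_three.dvd_of_dvd_pow ((show (3 : ℕ) ∣ 60 by norm_num).trans hd)
      norm_num at this
  have hc : Cfsg.pCore 2 C = Q := le_antisymm hge hle
  rw [← hc]
  exact Layer.generalizedFitting_eq_pCore_iff.2 (by rw [hc]; exact h2c)

theorem exists_commuting_conj [IsSimpleGroup G] {z x y : G} (hz : orderOf z = 2) (hx : orderOf x = 2)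
    (hy : orderOf y = 2) (hxy : ¬ IsConj x y) : ∃ u : G, Commute z (u * z * u⁻¹) ∧ u * z * u⁻¹ ≠ z := by
  haveI := Fintype.ofFinite G
  by_contra hcon
  push Not at hcon
  have hiso : Cfsg.IsIsolatedInvolution z := ⟨hz, fun u hu => hcon u hu⟩
  have hco := ZStar.commutatorsInCore_of_isolated hiso
  haveI := Transfer.pPrimeCore_normal 2 G
  rcases Subgroup.Normal.eq_bot_or_eq_top (inferInstance : (Cfsg.pPrimeCore 2 G).Normal) with h | h
  · have hzc : z ∈ Subgroup.center G := by
      refine Subgroup.mem_center_iff.2 fun w => ?_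
      have h1 := hco w
      rw [h, Subgroup.mem_bot, mul_inv_eq_one, mul_inv_eq_iff_eq_mul] at h1
      exact h1.symm
    have htop : Subgroup.center G = ⊤ :=
      (Subgroup.Normal.eq_bot_or_eq_top inferInstance).resolve_left fun hb => by
        rw [hb, Subgroup.mem_bot] at hzc
        rw [hzc, orderOf_one] at hz
        omega
    have hcm : ∀ a b : G, a * b = b * a := fun a b =>
      Subgroup.mem_center_iff.1 (htop.ge (Subgroup.mem_top b)) a
    haveI : (Subgroup.zpowers x).Normal := ⟨fun n hn w => by rw [hcm w n, mul_inv_cancel_right]; exact hn⟩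
    have htx : Subgroup.zpowers x = ⊤ :=
      (Subgroup.Normal.eq_bot_or_eq_top inferInstance).resolve_left fun hb => by
        rw [Subgroup.zpowers_eq_bot] at hb
        rw [hb, orderOf_one] at hx
        omega
    obtain ⟨j, rfl⟩ := Subgroup.mem_zpowers_iff.1 (htx.ge (Subgroup.mem_top y))
    obtain ⟨hx1, hxx⟩ := orderTwo hx
    obtain ⟨hy1, -⟩ := orderTwo hy
    apply hxy
    rcases Int.even_or_odd j with ⟨m, rfl⟩ | ⟨m, rfl⟩
    · exfalso; apply hy1
      rw [← two_mul, zpow_mul, zpow_ofNat, pow_two, hxx, one_zpow]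
    · rw [zpow_add, zpow_mul, zpow_ofNat, pow_two, hxx, one_zpow, one_mul, zpow_one]
  · have hodd : Odd (Nat.card (Cfsg.pPrimeCore 2 G)) := ZStar.odd_card_core
    rw [h, Subgroup.card_top] at hodd
    exact (Nat.not_even_iff_odd.2 hodd) (even_iff_two_dvd.2 (hz ▸ orderOf_dvd_natCard z))

/-- The central involution is not weakly closed. -/
theorem not_weakly_closed [IsSimpleGroup G] (z : G) (hz : orderOf z = 2)
    (Q : Subgroup (Subgroup.centralizer ({z} : Set G))) [Q.Normal]
    (hF : Cfsg.generalizedFittingSubgroup (Subgroup.centralizer ({z} : Set G)) = Q)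
    (hQ : Cfsg.IsExtraspecial 2 Q) (hcard : Nat.card Q = 2 ^ 5)
    (e : (Subgroup.centralizer ({z} : Set G)) ⧸ Q ≃* Cfsg.Omega (ZMod 2) (Cfsg.quadFormMinus 1 (ZMod 2) 1 1))
    (hcl : ∃ x y : G, orderOf x = 2 ∧ orderOf y = 2 ∧ ¬ IsConj x y) :
    ∃ g : G, (∃ hq : g * z * g⁻¹ ∈ Subgroup.centralizer ({z} : Set G),
      (⟨g * z * g⁻¹, hq⟩ : Subgroup.centralizer ({z} : Set G)) ∈ Q) ∧ g * z * g⁻¹ ≠ z := by
  haveI := Fintype.ofFinite G
  by_contra hno
  have memC : ∀ g : G, g ∈ Subgroup.centralizer ({z} : Set G) ↔ g * z = z * g := fun g => Subgroup.mem_centralizer_singleton_iff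
  obtain ⟨x, y, hx, hy, hxy⟩ := hcl
  obtain ⟨u, hu, hne⟩ := exists_commuting_conj hz hx hy hxy
  have hnc : ∀ w : G, IsConj z w → w ∈ Q.map (Subgroup.centralizer ({z} : Set G)).subtype → w = z := by
    intro w hw hwQ
    by_contra hwz
    obtain ⟨n, rfl⟩ := isConj_iff.1 hw
    obtain ⟨c, hc, hce⟩ := hwQ
    change (c : G) = n * z * n⁻¹ at hce
    exact hno ⟨n, ⟨hce ▸ c.2, by
      rwa [show (⟨n * z * n⁻¹, hce ▸ c.2⟩ : Subgroup.centralizer ({z} : Set G)) = c from Subtype.ext hce.symm]⟩, hwz⟩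
  have hu2 : orderOf (u * z * u⁻¹) = 2 := by
    rw [← hz]; exact MulEquiv.orderOf_eq (MulAut.conj u) z
  have hzu : IsConj z (u * z * u⁻¹) := isConj_iff.2 ⟨u, rfl⟩
  have huC : u * z * u⁻¹ ∈ Subgroup.centralizer ({z} : Set G) := (memC _).2 hu.eq.symm
  obtain ⟨-, -, hK⟩ := J2Type.exists_hyp_aux z hz _ memC Q hF hQ hcard e
  obtain ⟨K, H⟩ := hK _ huC hu2 fun h => hne (hnc _ hzu h)
  obtain ⟨k, hk, hk2, hk1⟩ := H.exists_invol
  have hkC := H.setup.K_le hk
  have hkQ := H.notQ_of_K hk hk1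
  have hout : ∀ w ∈ Subgroup.centralizer ({z} : Set G), w * w = 1 → w ∉ Q.map (Subgroup.centralizer ({z} : Set G)).subtype → IsConj w k := by
    intro w hw hw2 hwQ
    obtain ⟨c, -, hc⟩ := H.conj_out hw hw2 hwQ hk hk2 hk1
    exact isConj_iff.2 ⟨c, hc⟩
  have hkz : IsConj z k := hzu.trans (hout _ huC (orderTwo hu2).2 fun h => hne (hnc _ hzu h))
  obtain ⟨n, hn⟩ := isConj_iff.1 hkz
  -- an element interchanging `z` and `k`
  have hw : n⁻¹ * z * n ∈ Subgroup.centralizer ({z} : Set G) := by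
    rw [memC]
    have h1 : Commute z k := ((memC k).1 hkC).symm
    have h2 : Commute (n⁻¹ * z * n⁻¹⁻¹) (n⁻¹ * k * n⁻¹⁻¹) := (Commute.conj_iff _).2 h1
    rw [← hn] at h2
    simp only [inv_inv] at h2
    rw [show n⁻¹ * (n * z * n⁻¹) * n = z by group] at h2
    exact h2.eq
  have hwconj : IsConj z (n⁻¹ * z * n) := isConj_iff.2 ⟨n⁻¹, by group⟩
  have hwz : n⁻¹ * z * n ≠ z := by
    intro h
    apply hkQ
    rw [← hn, show n * z * n⁻¹ = z by
      conv_lhs => rw [← h]
      group]
    exact H.setup.z_mem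
  obtain ⟨c, hc, hce⟩ := H.conj_out hw
    (by rw [show n⁻¹ * z * n * (n⁻¹ * z * n) = n⁻¹ * (z * z) * n by group, H.setup.z_sq]; group)
    (fun h => hwz (hnc _ hwconj h)) hk hk2 hk1
  set m := c * n⁻¹ with hm
  have hmz : m * z * m⁻¹ = k := by rw [hm, ← hce]; group
  have hmk : m * k * m⁻¹ = z := by
    rw [hm, ← hn, show c * n⁻¹ * (n * z * n⁻¹) * (c * n⁻¹)⁻¹ = c * z * c⁻¹ by group, (memC c).1 hc]
    group
  -- the four group `C_Q(k)`
  obtain ⟨h4, hsq, -, -⟩ := H.cq hk hk2 hk1
  set F := Q.map (Subgroup.centralizer ({z} : Set G)).subtype ⊓ Subgroup.centralizer ({k} : Set G) with hF'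
  have hzF : z ∈ F := ⟨H.setup.z_mem,
    Subgroup.mem_centralizer_singleton_iff.2 ((memC k).1 hkC).symm⟩
  set S := Finset.univ.filter fun a => a ∈ F with hS
  have hS4 : S.card = 4 := by
    rw [← h4, Nat.card_eq_fintype_card, Fintype.card_subtype]
  obtain ⟨a, haS, ha⟩ : ∃ a ∈ S, a ∉ ({1, z} : Finset G) := by
    by_contra h
    push Not at h
    have := (Finset.card_le_card (show S ⊆ {1, z} from h)).trans Finset.card_le_two
    omega
  simp only [Finset.mem_insert, Finset.mem_singleton, not_or] at ha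
  have haF : a ∈ F := (Finset.mem_filter.1 haS).2
  have hazF : a * z ∈ F := F.mul_mem haF hzF
  have ha2 : a * a = 1 := hsq a haF.1 (Subgroup.mem_centralizer_singleton_iff.1 haF.2)
  have haz : a * z ≠ 1 ∧ a * z ≠ z ∧ a * z ≠ a :=
    ⟨fun h => ha.2 (by rw [eq_inv_of_mul_eq_one_left h]; exact inv_eq_of_mul_eq_one_right H.setup.z_sq),
      fun h => ha.1 (mul_right_cancel (h.trans (one_mul z).symm)),
      fun h => H.setup.z_ne (mul_left_cancel (h.trans (mul_one a).symm))⟩
  have hSeq : ({1, z, a, a * z} : Finset G) = S := by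
    refine Finset.eq_of_subset_of_card_le ?_ ?_
    · intro w hw
      simp only [Finset.mem_insert, Finset.mem_singleton] at hw
      rw [hS, Finset.mem_filter]
      refine ⟨Finset.mem_univ _, ?_⟩
      rcases hw with rfl | rfl | rfl | rfl
      exacts [F.one_mem, hzF, haF, hazF]
    · rw [hS4, Finset.card_insert_of_notMem (by simp [H.setup.z_ne.symm, Ne.symm ha.1, haz.1.symm]),
        Finset.card_insert_of_notMem (by simp [Ne.symm ha.2, haz.2.1.symm]), Finset.card_pair haz.2.2.symm]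
  -- their images
  have himg : ∀ b ∈ F, b ≠ 1 → b ≠ z → b * b = 1 → m * b * m⁻¹ = a ∨ m * b * m⁻¹ = a * z := by
    intro b hb hb1 hbz hb2
    have hbzne : ¬ IsConj z b := fun h => hbz (hnc _ h hb.1)
    have hbk : Commute b k := Subgroup.mem_centralizer_singleton_iff.1 hb.2
    have hbzc : Commute b z := (memC b).1 (H.setup.Q_le hb.1)
    have h1 : Commute (m * b * m⁻¹) z := hmk ▸ (Commute.conj_iff m).2 hbk
    have h2 : Commute (m * b * m⁻¹) k := hmz ▸ (Commute.conj_iff m).2 hbzc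
    have hconj : IsConj b (m * b * m⁻¹) := isConj_iff.2 ⟨m, rfl⟩
    have hsq' : m * b * m⁻¹ * (m * b * m⁻¹) = 1 := by
      rw [show m * b * m⁻¹ * (m * b * m⁻¹) = m * (b * b) * m⁻¹ by group, hb2]; group
    have hQm : m * b * m⁻¹ ∈ Q.map (Subgroup.centralizer ({z} : Set G)).subtype := by
      by_contra h
      exact hbzne (hkz.trans ((hout _ ((memC _).2 h1.eq) hsq' h).symm.trans hconj.symm))
    have hmem : m * b * m⁻¹ ∈ S :=
      Finset.mem_filter.2 ⟨Finset.mem_univ _, hQm, Subgroup.mem_centralizer_singleton_iff.2 h2.eq⟩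
    rw [← hSeq] at hmem
    simp only [Finset.mem_insert, Finset.mem_singleton] at hmem
    rcases hmem with h | h | h | h
    · exact absurd (conj_eq_one_iff.1 h) hb1
    · exact absurd (h ▸ hconj).symm hbzne
    · exact Or.inl h
    · exact Or.inr h
  have haz2 : a * z * (a * z) = 1 :=
    hsq _ hazF.1 (Subgroup.mem_centralizer_singleton_iff.1 hazF.2)
  have hi1 := himg a haF ha.1 ha.2 ha2
  have hi2 := himg (a * z) hazF haz.1 haz.2.1 haz2
  have hprod : m * a * m⁻¹ * (m * (a * z) * m⁻¹) = k := by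
    rw [show m * a * m⁻¹ * (m * (a * z) * m⁻¹) = m * (a * a) * z * m⁻¹ by group, ha2, mul_one, hmz]
  have hne' : m * a * m⁻¹ ≠ m * (a * z) * m⁻¹ := fun h =>
    haz.2.2 (mul_left_cancel (mul_right_cancel h)).symm
  apply hkQ
  rw [← hprod]
  rcases hi1 with h1 | h1 <;> rcases hi2 with h2 | h2 <;> rw [h1, h2]
  · exact absurd (h1.trans h2.symm) hne'
  · exact (Q.map _).mul_mem haF.1 hazF.1
  · exact (Q.map _).mul_mem hazF.1 haF.1
  · exact absurd (h1.trans h2.symm) hne'

end CfsgLib.J2Uniq
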