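import Cfsg.Agent.Lib.J2.FusionMain
import Cfsg.Agent.Lib.J2.CentInvol
import Cfsg.Agent.Lib.J2.Simple
import Cfsg.Agent.Lib.J2Uniq.Simple

/-!
The Hall–Janko group is of Hall–Janko type.
-/

set_option autoImplicit false

namespace CfsgLib.J2Uniq

open CfsgLib.J2 CfsgLib.J2.Cent CfsgLib.J2.Fus CfsgLib.J2.Mult

theorem exists_two : ∃ i j : Fin certs.length, i ≠ j ∧ certs[i].ord = 2 ∧ certs[j].ord = 2 := by
  decide +kernel

theorem simple_J : IsSimpleGroup J := by
  haveI : Nontrivial J := Finite.one_lt_card_iff_nontrivial.1 (by rw [card_J]; norm_num)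
  exact ⟨eq_bot_or_eq_top⟩

theorem el_pow_dvd {x : J} {p : ℕ} (hp : p.Prime) (hn : x ∉ Q₀) (hx : x ^ p ∈ Q₀) : p ∣ orderOf x := by
  by_contra h
  apply hn
  obtain ⟨m, hm⟩ := exists_pow_eq_self_of_coprime ((hp.coprime_iff_not_dvd).2 h)
  rw [← hm]
  exact Q₀.pow_mem hx m

set_option maxHeartbeats 1600000 in
theorem hyp_J : ∃ (Q K C : Subgroup J), J2Type.Hyp zE Q K C := by
  haveI : Fact (Nat.Prime 2) := ⟨Nat.prime_two⟩
  haveI := simple_J
  have hz : orderOf zE = 2 := by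
    have h : sameOn (expand (wS 125) ++ expand (wS 125)) [] = true := by decide +kernel
    exact orderOf_eq_prime (by rw [pow_two, zE]; exact Mult.mul_self_eq_one h) zE_ne_one
  obtain ⟨Q, hn, hQ32, hQe, ⟨e⟩⟩ := structureCz
  -- `Q₀` is normal in the centraliser
  obtain ⟨ht, hb⟩ := gen_mem
  obtain ⟨hNt, -, hNS⟩ := norm_Q₀
  set N : Subgroup J := Cz ⊓ Subgroup.normalizer (Q₀ : Set J)
  have htN : el tW ∈ N := ⟨ht, hNt⟩
  have hbN : el bW ∈ N := ⟨hb, b_norm⟩
  have hQN : Q₀ ≤ N := le_inf Q₀_le_Cz Subgroup.le_normalizer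
  have hSN : S₀ ≤ N := le_inf S₀_le_Cz hNS
  have hc := cenOK_true
  simp only [cenOK, Bool.and_eq_true, Bool.not_eq_true'] at hc
  obtain ⟨⟨⟨⟨⟨⟨⟨⟨⟨⟨⟨-, -⟩, hb3⟩, hc5⟩, -⟩, -⟩, -⟩, nt⟩, nb⟩, nc⟩, hsmall⟩, -⟩ := hc
  have hall : ∀ {w : List ℕ}, (∀ i ∈ w, i ∈ tW ++ bW) → w.all (fun i => decide (i < 4)) = true :=
    fun {w} hw => List.all_eq_true.mpr fun i hi => List.all_eq_true.mp hsmall i (hw i hi)
  have n2 : el bW ∉ Q₀ := not_mem_Q₀ (hall fun i hi => List.mem_append_right _ hi) nb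
  have n3 : el tW * el bW ∉ Q₀ := by rw [← el_append]; exact not_mem_Q₀ hsmall nc
  have b3 : el bW ^ 3 ∈ Q₀ := by
    rw [pow_succ, pow_two, ← el_append, ← el_append, el_eq hb3]
    exact mem_Q₀ (by decide)
  have c5 : (el tW * el bW) ^ 5 ∈ Q₀ := by
    rw [pow_succ, pow_succ, pow_succ, pow_two]
    simp only [← el_append, List.append_assoc]
    simp only [List.append_assoc] at hc5
    rw [el_eq hc5]
    exact mem_Q₀ (by decide)
  have hNc : N = Cz := by
    refine Subgroup.eq_of_le_of_card_ge inf_le_left ?_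
    rw [show Nat.card Cz = 1920 from card_centralizer_z]
    refine Nat.le_of_dvd Nat.card_pos ?_
    have d3 : 3 ∣ Nat.card N := (el_pow_dvd Nat.prime_three n2 b3).trans (Subgroup.orderOf_dvd_natCard _ hbN)
    have d5 : 5 ∣ Nat.card N := (el_pow_dvd Nat.prime_five n3 c5).trans
      (Subgroup.orderOf_dvd_natCard _ (N.mul_mem htN hbN))
    have d128 : 128 ∣ Nat.card N := card_S₀ ▸ Subgroup.card_dvd_of_le hSN
    exact Nat.Coprime.mul_dvd_of_dvd_of_dvd (by norm_num : Nat.Coprime 128 15) d128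
      (Nat.Coprime.mul_dvd_of_dvd_of_dvd (by norm_num : Nat.Coprime 3 5) d3 d5)
  haveI : (Q₀.subgroupOf Cz).Normal :=
    (Subgroup.normal_subgroupOf_iff_le_normalizer Q₀_le_Cz).mpr (hNc ▸ inf_le_right)
  let π : Cz →* alternatingGroup (Fin 5) := e.toMonoidHom.comp (QuotientGroup.mk' Q)
  have hπ : Function.Surjective π := e.surjective.comp (QuotientGroup.mk'_surjective Q)
  have hker : ∀ c, π c = 1 → c ∈ Q := fun c h =>
    (QuotientGroup.eq_one_iff c).1 (e.injective (h.trans (map_one e).symm))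
  haveI : IsSimpleGroup (alternatingGroup (Fin 5)) := alternatingGroup.isSimpleGroup_five
  have hc0 : Nat.card (Q₀.subgroupOf Cz) = 32 := by
    rw [Nat.card_congr (Subgroup.subgroupOfEquivOfLe Q₀_le_Cz).toEquiv, card_Q₀]
  have hQeq : Q₀.subgroupOf Cz = Q := by
    refine Subgroup.eq_of_le_of_card_ge (fun c hc' => hker c ?_) (by rw [hQ32, hc0])
    haveI : ((Q₀.subgroupOf Cz).map π).Normal := Subgroup.Normal.map inferInstance π hπ
    rcases Subgroup.Normal.eq_bot_or_eq_top (inferInstance : ((Q₀.subgroupOf Cz).map π).Normal) with h | h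
    · rw [← Subgroup.mem_bot, ← h]; exact ⟨c, hc', rfl⟩
    · exfalso
      have hd := Subgroup.card_map_dvd (Q₀.subgroupOf Cz) π
      rw [h, Subgroup.card_top, J2Type.card_alt5, hc0] at hd
      norm_num at hd
  have h2c : Subgroup.centralizer (Q : Set Cz) ≤ Q := by
    haveI : (Subgroup.centralizer (Q : Set Cz)).Normal := by infer_instance
    haveI : ((Subgroup.centralizer (Q : Set Cz)).map π).Normal := Subgroup.Normal.map inferInstance π hπ
    rcases Subgroup.Normal.eq_bot_or_eq_top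
      (inferInstance : ((Subgroup.centralizer (Q : Set Cz)).map π).Normal) with h | h
    · intro c hc'
      refine hker c ?_
      rw [← Subgroup.mem_bot, ← h]; exact ⟨c, hc', rfl⟩
    exfalso
    obtain ⟨s, hs, hsQ⟩ : ∃ s ∈ S₀, s ∉ Q₀ := by
      by_contra hh
      push Not at hh
      have := Subgroup.card_le_of_le (show S₀ ≤ Q₀ from hh)
      rw [card_S₀, card_Q₀] at this
      omega
    obtain ⟨c, hc', hce⟩ : π ⟨s, S₀_le_Cz hs⟩ ∈ (Subgroup.centralizer (Q : Set Cz)).map π := by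
      rw [h]; exact Subgroup.mem_top _
    have hm : ⟨s, S₀_le_Cz hs⟩ * c⁻¹ ∈ Q := hker _ (by rw [map_mul, map_inv, hce, mul_inv_cancel])
    rw [← hQeq] at hm hc'
    have hm' : s * (c : J)⁻¹ ∈ Q₀ := hm
    have hcS : (c : J) ∈ S₀ := by
      have := S₀.mul_mem (S₀.inv_mem (Q₀_le hm')) hs
      rwa [show (s * (c : J)⁻¹)⁻¹ * s = (c : J) by group] at this
    have hcQ : (c : J) ∈ Q₀ := cent_Q₀ hcS fun i => by
      have hq : qE i ∈ Q₀ := Subgroup.subset_closure (Set.mem_range_self i)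
      exact (congrArg Subtype.val (Subgroup.mem_centralizer_iff.1 hc' ⟨qE i, Q₀_le_Cz hq⟩ hq)).symm
    exact hsQ (by simpa using Q₀.mul_mem hm' hcQ)
  have hgfs := gfs_eq Q hQ32 h2c e
  haveI := hn
  obtain ⟨ω⟩ := J2Type.omega_equiv_alt5
  have hcl : ∃ x y : J, orderOf x = 2 ∧ orderOf y = 2 ∧ ¬ IsConj x y := by
    obtain ⟨i, j, hij, hi, hj⟩ := exists_two
    have ho : ∀ i : Fin certs.length, orderOf (classRep i) = certs[i].ord := fun i => by
      rw [← Subgroup.orderOf_coe]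
      exact orderOf_elt (certs_ok _ (List.getElem_mem i.isLt))
    refine ⟨classRep i, classRep j, (ho i).trans hi, (ho j).trans hj, fun h => ?_⟩
    obtain ⟨c, hc'⟩ := isConj_iff.1 h
    exact Set.disjoint_left.1 (classOf_disjoint hij)
      (⟨ConjAct.toConjAct c, by rw [← hc']; rfl⟩ : classRep j ∈ classOf i) (MulAction.mem_orbit_self _)
  have hcard : Nat.card Q = 2 ^ 5 := by rw [hQ32]; norm_num
  have hnwc := @not_weakly_closed J _ _ _ zE hz Q hn hgfs hQe hcard (e.trans ω.symm) hcl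
  obtain ⟨K, H⟩ := J2Type.exists_hyp zE hz Cz (fun _ => Subgroup.mem_centralizer_singleton_iff) Q hgfs hQe
    hcard (e.trans ω.symm) hnwc hcl
  exact ⟨_, K, Cz, H⟩

end CfsgLib.J2Uniq
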