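import Cfsg.Agent.Lib.J2Type.Classes
import Cfsg.Agent.Lib.CosetEnum.Sound

/-!
A computable model of `2^(1+4) . A5` and frames: five involutions of the extraspecial subgroup
permuted naturally by the complement.
-/

set_option autoImplicit false

namespace CfsgLib.J2Uniq

local notation "A₅" => alternatingGroup (Fin 5)

/-- The extraspecial group: a sign and four bits. -/
abbrev QM := Bool × Bool × Bool × Bool × Bool

/-- Flip the sign. -/
def qflip : QM → QM := fun (e, r) => (!e, r)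

/-- Product in the extraspecial group. -/
def qmul : QM → QM → QM := fun (e, a0, a1, a2, a3) (f, b0, b1, b2, b3) =>
  (xor e (xor f (xor (a1 && b0) (xor (a2 && xor b0 b1) (a3 && xor b0 (xor b1 b2))))),
    xor a0 b0, xor a1 b1, xor a2 b2, xor a3 b3)

/-- The identity. -/
def qone : QM := (false, false, false, false, false)

/-- The five involutions. -/
def qgen (i : Fin 5) : QM :=
  (false, i == 0 || i == 4, i == 1 || i == 4, i == 2 || i == 4, i == 3 || i == 4)

/-- Action of the alternating group. -/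
def qact (p : A₅) : QM → QM := fun (e, a0, a1, a2, a3) =>
  qmul (qmul (qmul (qmul (e, false, false, false, false) (if a0 then qgen (p.1 0) else qone))
    (if a1 then qgen (p.1 1) else qone)) (if a2 then qgen (p.1 2) else qone))
    (if a3 then qgen (p.1 3) else qone)

/-- The model of the centraliser. -/
abbrev MC := QM × A₅

/-- Product in the model. -/
def mmul : MC → MC → MC := fun (v, p) (w, r) => (qmul v (qact p w), p * r)

/-- The identity of the model. -/
def mone : MC := (qone, 1)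

/-- `(0 1)(2 3)` -/
def pt : A₅ := ⟨Equiv.swap 0 1 * Equiv.swap 2 3, Equiv.Perm.mem_alternatingGroup.2 (by decide +kernel)⟩

/-- `(0 2)(1 3)` -/
def pt' : A₅ := ⟨Equiv.swap 0 2 * Equiv.swap 1 3, Equiv.Perm.mem_alternatingGroup.2 (by decide +kernel)⟩

/-- `(0 3)(1 2)` -/
def pt'' : A₅ := ⟨Equiv.swap 0 3 * Equiv.swap 1 2, Equiv.Perm.mem_alternatingGroup.2 (by decide +kernel)⟩

/-- `(0 1 2)` -/
def pr : A₅ := ⟨Equiv.swap 0 1 * Equiv.swap 1 2, Equiv.Perm.mem_alternatingGroup.2 (by decide +kernel)⟩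

/-- `(2 3 4)` -/
def ph : A₅ := ⟨Equiv.swap 2 3 * Equiv.swap 3 4, Equiv.Perm.mem_alternatingGroup.2 (by decide +kernel)⟩

/-- `(1 2 3)` -/
def ps : A₅ := ⟨Equiv.swap 1 2 * Equiv.swap 2 3, Equiv.Perm.mem_alternatingGroup.2 (by decide +kernel)⟩

/-- A five cycle. -/
def pf : A₅ := pr * ph

theorem stab_decomp : ∀ p : A₅, p.1 4 = 4 →
    ∃ a ∈ [1, pt, pt', pt''], ∃ b ∈ [1, pr, pr * pr], p = a * b := by decide +kernel

theorem exists_mover : ∀ i j : Fin 5, i ≠ j → ∀ l : Fin 5, l ≠ 4 → ∃ p : A₅, p.1 i = 4 ∧ p.1 j = l := by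
  decide +kernel

theorem exists_to : ∀ i : Fin 5, ∃ p : A₅, p.1 4 = i := by decide +kernel

theorem qflip_or : ∀ v : QM, v = qone ∨ v = qflip qone ∨
    ∃ i : Fin 5, qmul v (qgen i) = qflip (qmul (qgen i) v) := by decide +kernel

theorem qinv_exists : ∀ w : QM, ∃ w' : QM, qmul w w' = qone := by decide +kernel

set_option synthInstance.maxSize 2000 in
set_option synthInstance.maxHeartbeats 100000 in
theorem qcancel : ∀ v w w' : QM, qmul v w' = qone → qmul w w' = qone → v = w := by decide +kernel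

theorem qmul_assoc4 : ∀ v : QM, ∀ f b0 b1 b2 b3 : Bool,
    qmul v (f, b0, b1, b2, b3) = qmul (qmul (qmul (qmul (qmul v (f, false, false, false, false))
      (if b0 then qgen 0 else qone)) (if b1 then qgen 1 else qone)) (if b2 then qgen 2 else qone))
      (if b3 then qgen 3 else qone) := by decide +kernel

open CfsgLib.J2Type CfsgLib.J2Order

variable {G : Type*} [Group G]

/-- Five involutions permuted naturally by a complement. -/
structure Frame (z : G) (Q K C : Subgroup G) (k : alternatingGroup (Fin 5) →* G) (x : Fin 5 → G) : Prop where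
  core : Core z Q K C
  k_inj : Function.Injective k
  k_range : k.range = K
  x_mem : ∀ i, x i ∈ Q
  x_sq : ∀ i, x i * x i = 1
  x_anti : ∀ i j, i ≠ j → x i * x j = z * (x j * x i)
  x_conj : ∀ (p : alternatingGroup (Fin 5)) i, k p * x i * (k p)⁻¹ = x (p.1 i)
  x_prod : x 4 = x 0 * x 1 * x 2 * x 3

theorem moves {z a b c : G} (h : a * b = z * (b * a)) (hz : Commute z c) :
    c * a * b = z * (c * b * a) := by
  rw [mul_assoc, h, ← mul_assoc c z, ← hz.eq, mul_assoc z c, mul_assoc c b a]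

theorem exists_frame [Finite G] {z : G} {Q K C : Subgroup G} (H : Core z Q K C) :
    ∃ (k : alternatingGroup (Fin 5) →* G) (x : Fin 5 → G), Frame z Q K C k x := by
  classical
  obtain ⟨ψ⟩ := H.S.equivK
  set k : alternatingGroup (Fin 5) →* G := K.subtype.comp ψ.symm.toMonoidHom with hk
  have kK : ∀ p, k p ∈ K := fun p => (ψ.symm p).2
  have kC : ∀ p, k p ∈ C := fun p => H.S.K_le (kK p)
  have kinj : Function.Injective k := K.subtype_injective.comp ψ.symm.injective
  have krange : k.range = K := by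
    refine le_antisymm ?_ fun a ha => ⟨ψ ⟨a, ha⟩, ?_⟩
    · rintro _ ⟨p, rfl⟩; exact kK p
    · show ((ψ.symm (ψ ⟨a, ha⟩) : K) : G) = a
      rw [ψ.symm_apply_apply]
  have kne : ∀ p, p ≠ 1 → k p ≠ 1 := fun p hp h => hp (kinj (h.trans k.map_one.symm))
  have ksq : ∀ p, p * p = 1 → k p * k p = 1 := fun p hp => by rw [← map_mul, hp, map_one]
  have htm : pt * pt = 1 := by decide +kernel
  have ht1 : pt ≠ 1 := by decide +kernel
  set t := k pt
  obtain ⟨hF4, hFsq, -, -⟩ := H.cq (kK pt) (ksq _ htm) (kne _ ht1)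
  set F := (Q ⊓ Subgroup.centralizer ({t} : Set G) : Subgroup G) with hFdef
  obtain ⟨e, heF, he1, hez⟩ : ∃ e ∈ F, e ≠ 1 ∧ e ≠ z := by
    by_contra hc
    push Not at hc
    have : Nat.card F ≤ 2 := by
      rw [show Nat.card F = (F : Set G).ncard from Nat.card_coe_set_eq _]
      exact (Set.ncard_le_ncard (t := ({1, z} : Set G)) (fun a ha => by
        by_cases h : a = 1
        · exact Or.inl h
        · exact Or.inr (hc a ha h)) (Set.toFinite _)).trans ((Set.ncard_insert_le _ _).trans (by simp))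
    omega
  have heQ : e ∈ Q := heF.1
  have het : e * t = t * e := Subgroup.mem_centralizer_singleton_iff.1 heF.2
  have hee : e * e = 1 := hFsq e heQ het
  have hzF : z ∈ F := ⟨H.S.z_mem, Subgroup.mem_centralizer_singleton_iff.2 (H.S.z_cen t (kC pt)).symm⟩
  have hFeq : ∀ a ∈ F, a = 1 ∨ a = z ∨ a = e ∨ a = e * z := by
    have hsub : ({1, z, e, e * z} : Set G) ⊆ F := by
      rintro a (rfl | rfl | rfl | rfl)
      exacts [F.one_mem, hzF, heF, F.mul_mem heF hzF]
    have hc : ({1, z, e, e * z} : Set G).ncard = 4 := by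
      rw [Set.ncard_insert_of_notMem, Set.ncard_insert_of_notMem, Set.ncard_pair]
      · exact fun h => H.S.z_ne (mul_eq_left.1 h.symm)
      · rintro (h | h)
        · exact hez h.symm
        · exact he1 (mul_eq_right.1 h.symm)
      · rintro (h | h | h)
        · exact H.S.z_ne h.symm
        · exact he1 h.symm
        · apply hez
          rw [eq_inv_of_mul_eq_one_left h.symm, inv_eq_of_mul_eq_one_right H.S.z_sq]
    have heq := Set.eq_of_subset_of_ncard_le hsub
      (by rw [hc, ← Nat.card_coe_set_eq]; exact hF4.le) (Set.toFinite _)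
    intro a ha
    have : a ∈ ({1, z, e, e * z} : Set G) := heq ▸ ha
    simpa using this
  have hfix_inv : ∀ a ∈ [pt, pt', pt''], k a * e * (k a)⁻¹ = e := by
    intro a ha
    have hh : a * a = 1 ∧ a ≠ 1 ∧ pt * a = a * pt := by
      revert a; decide +kernel
    exact mul_inv_eq_iff_eq_mul.2 (H.cq_eq (kK pt) (ksq _ htm) (kne _ ht1) (kK a) (ksq _ hh.1) (kne _ hh.2.1)
      (by rw [← map_mul, hh.2.2, map_mul]) e heQ het).symm
  have hzc : ∀ p (a : G), k p * (a * z) * (k p)⁻¹ = k p * a * (k p)⁻¹ * z := fun p a => by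
    calc k p * (a * z) * (k p)⁻¹ = k p * a * (z * (k p)⁻¹) := by group
      _ = k p * a * ((k p)⁻¹ * z) := by rw [H.S.z_cen _ (C.inv_mem (kC p))]
      _ = k p * a * (k p)⁻¹ * z := by group
  have hfix_r : k pr * e * (k pr)⁻¹ = e := by
    have hu : pr * pt * pr⁻¹ = pt'' ∨ pr * pt * pr⁻¹ = pt' := by decide +kernel
    set u := pr * pt * pr⁻¹ with hudef
    have hh : u * u = 1 ∧ u ≠ 1 ∧ u * pt = pt * u := by rw [hudef]; decide +kernel
    have hcQ := H.S.conj_mem _ (kC pr) e heQ
    have hcu : k pr * e * (k pr)⁻¹ * k u = k u * (k pr * e * (k pr)⁻¹) := by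
      rw [hudef, map_mul, map_mul, map_inv]
      exact ((Commute.conj_iff (k pr)).2 (show Commute e t from het)).eq
    have hct := H.cq_eq (kK u) (ksq _ hh.1) (kne _ hh.2.1) (kK pt) (ksq _ htm) (kne _ ht1)
      (by rw [← map_mul, hh.2.2, map_mul]) _ hcQ hcu
    rcases hFeq _ ⟨hcQ, Subgroup.mem_centralizer_singleton_iff.2 hct⟩ with h | h | h | h
    · exact absurd (conj_eq_one_iff.1 h) he1
    · exfalso
      apply hez
      calc e = (k pr)⁻¹ * (k pr * e * (k pr)⁻¹) * k pr := by group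
        _ = z := by rw [h, mul_assoc, ← H.S.z_cen _ (kC pr), inv_mul_cancel_left]
    · exact h
    · exfalso
      have h3 : pr * (pr * pr) = 1 := by decide +kernel
      have h' : k (pr * (pr * pr)) * e * (k (pr * (pr * pr)))⁻¹ = e * z := by
        rw [map_mul, map_mul,
          show k pr * (k pr * k pr) * e * (k pr * (k pr * k pr))⁻¹ =
            k pr * (k pr * (k pr * e * (k pr)⁻¹) * (k pr)⁻¹) * (k pr)⁻¹ by group,
          h, hzc, h, H.S.mul_zz, h]
      rw [h3, map_one, one_mul, inv_one, mul_one] at h'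
      exact H.S.z_ne (mul_eq_left.1 h'.symm)
  have hfix : ∀ p : alternatingGroup (Fin 5), p.1 4 = 4 → k p * e * (k p)⁻¹ = e := by
    intro p hp
    obtain ⟨a, ha, b, hb, rfl⟩ := stab_decomp p hp
    have fa : k a * e * (k a)⁻¹ = e := by
      simp only [List.mem_cons, List.not_mem_nil, or_false] at ha
      rcases ha with rfl | rfl | rfl | rfl
      · simp
      all_goals exact hfix_inv _ (by simp)
    have fb : k b * e * (k b)⁻¹ = e := by
      simp only [List.mem_cons, List.not_mem_nil, or_false] at hb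
      rcases hb with rfl | rfl | rfl
      · simp
      · exact hfix_r
      · rw [map_mul, show k pr * k pr * e * (k pr * k pr)⁻¹ = k pr * (k pr * e * (k pr)⁻¹) * (k pr)⁻¹ by group,
          hfix_r, hfix_r]
    rw [map_mul, show k a * k b * e * (k a * k b)⁻¹ = k a * (k b * e * (k b)⁻¹) * (k a)⁻¹ by group, fb, fa]
  choose σ hσ using exists_to
  let x : Fin 5 → G := fun i => k (σ i) * e * (k (σ i))⁻¹
  have hx4 : x 4 = e := hfix _ (hσ 4)
  have hxc : ∀ (p : alternatingGroup (Fin 5)) i, k p * x i * (k p)⁻¹ = x (p.1 i) := by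
    intro p i
    have h := hfix ((σ (p.1 i))⁻¹ * p * σ i) (by
      show ((σ (p.1 i)).1)⁻¹ (p.1 ((σ i).1 4)) = 4
      rw [hσ, Equiv.Perm.inv_eq_iff_eq, hσ])
    show k p * (k (σ i) * e * (k (σ i))⁻¹) * (k p)⁻¹ = k (σ (p.1 i)) * e * (k (σ (p.1 i)))⁻¹
    conv_rhs => rw [← h]
    simp only [map_mul, map_inv]; group
  have hxQ : ∀ i, x i ∈ Q := fun i => H.S.conj_mem _ (kC _) e heQ
  have hxsq : ∀ i, x i * x i = 1 := fun i => by
    show k (σ i) * e * (k (σ i))⁻¹ * (k (σ i) * e * (k (σ i))⁻¹) = 1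
    rw [show k (σ i) * e * (k (σ i))⁻¹ * (k (σ i) * e * (k (σ i))⁻¹) = k (σ i) * (e * e) * (k (σ i))⁻¹ by group,
      hee]; group
  have hxX : ∀ i, x i ∈ H.S.toBase.X := fun i => by
    have : x i = k (σ i) * e * (k (σ i))⁻¹ := rfl
    rw [this]
    exact H.S.toBase.conj_X (kC _) (H.S.toBase.mem_X.2 ⟨heQ, hee, he1, hez⟩)
  have hpairs : ∀ i j, i ≠ j → H.S.pr (x i) ≠ H.S.pr (x j) := by
    intro i j hij hp
    have hall : ∀ l, l ≠ 4 → x l = e ∨ x l = e * z := by
      intro l hl
      obtain ⟨p, hp1, hp2⟩ := exists_mover i j hij l hl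
      have hm : x j ∈ H.S.pr (x i) := hp ▸ Finset.mem_insert_self _ _
      rcases H.S.mem_pr.1 hm with h | h
      · left; rw [← hp2, ← hxc, h, hxc, hp1, hx4]
      · right; rw [← hp2, ← hxc, h, hzc, hxc, hp1, hx4]
    have hf : pf.1 4 ≠ 4 ∧ pf ^ 5 = 1 ∧ pf ≠ 1 := by decide +kernel
    have hf5 : k pf ^ 5 = 1 := by rw [← map_pow, hf.2.1, map_one]
    have hc := hxc pf 4
    rw [hx4] at hc
    rcases hall _ hf.1 with h | h <;> rw [h] at hc
    · rcases H.S.five_centralizer (kK pf) hf5 (kne _ hf.2.2) heQ (mul_inv_eq_iff_eq_mul.1 hc) with h' | h'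
      exacts [he1 h', hez h']
    · have h' : ∀ n : ℕ, k pf ^ n * e * (k pf ^ n)⁻¹ = e * z ^ n := by
        intro n
        induction n with
        | zero => simp
        | succ n ih =>
          rw [pow_succ', show k pf * k pf ^ n * e * (k pf * k pf ^ n)⁻¹ =
            k pf * (k pf ^ n * e * (k pf ^ n)⁻¹) * (k pf)⁻¹ by group, ih]
          have hcz : Commute (k pf) (z ^ n) := Commute.pow_right (H.S.z_cen _ (kC pf)) n
          rw [show k pf * (e * z ^ n) * (k pf)⁻¹ = k pf * e * (k pf)⁻¹ * (k pf * z ^ n * (k pf)⁻¹) by group,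
            hc, hcz.eq, mul_inv_cancel_right, mul_assoc, pow_succ']
      have h5 := h' 5
      have z5 : z ^ 5 = z := by
        simp only [pow_succ, pow_zero, one_mul, H.S.z_sq]
      rw [hf5, one_mul, inv_one, mul_one, z5] at h5
      exact H.S.z_ne (mul_eq_left.1 h5.symm)
  have hanti : ∀ i j, i ≠ j → x i * x j = z * (x j * x i) := fun i j hij =>
    H.S.anti_of_ne (hxX i) (hxX j) (hpairs i j hij)
  have hzx : ∀ i, Commute z (x i) := fun i => (H.S.mul_z (hxQ i)).symm
  set P := x 0 * x 1 * x 2 * x 3 with hP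
  have hPQ : P ∈ Q := Q.mul_mem (Q.mul_mem (Q.mul_mem (hxQ 0) (hxQ 1)) (hxQ 2)) (hxQ 3)
  have hPt : P * t = t * P := by
    have e1 : t * P * t⁻¹ = x 1 * x 0 * x 3 * x 2 := by
      have c0 := hxc pt 0
      have c1 := hxc pt 1
      have c2 := hxc pt 2
      have c3 := hxc pt 3
      rw [show pt.1 0 = 1 by decide +kernel] at c0
      rw [show pt.1 1 = 0 by decide +kernel] at c1
      rw [show pt.1 2 = 3 by decide +kernel] at c2
      rw [show pt.1 3 = 2 by decide +kernel] at c3
      rw [← show t * x 0 * t⁻¹ * (t * x 1 * t⁻¹) * (t * x 2 * t⁻¹) * (t * x 3 * t⁻¹) = t * P * t⁻¹ by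
        rw [hP]; group, c0, c1, c2, c3]
    refine (mul_inv_eq_iff_eq_mul.1 (e1.trans ?_)).symm
    calc x 1 * x 0 * x 3 * x 2 = z * (x 0 * x 1) * (z * (x 2 * x 3)) := by
          rw [mul_assoc, hanti 1 0 (by decide), hanti 3 2 (by decide)]
      _ = z * z * (x 0 * x 1) * (x 2 * x 3) := by
          rw [mul_assoc z, ← mul_assoc (x 0 * x 1) z, ← ((hzx 0).mul_right (hzx 1)).eq]; group
      _ = P := by rw [H.S.z_sq, one_mul, hP]; group
  have hP0 : P * x 0 = z * (x 0 * P) := by
    have : ∀ i, i ≠ 0 → x 0 * x i = z * (x i * x 0) := fun i hi => hanti 0 i hi.symm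
    have e3 : x 1 * x 2 * x 3 * x 0 = z * (x 0 * (x 1 * x 2 * x 3)) := by
      rw [moves (hanti 3 0 (by decide)) ((hzx 1).mul_right (hzx 2)), moves (hanti 2 0 (by decide)) (hzx 1),
        hanti 1 0 (by decide)]
      simp only [mul_assoc]
      rw [← mul_assoc z z, H.S.z_sq, one_mul]
    rw [hP, show x 0 * x 1 * x 2 * x 3 * x 0 = x 0 * (x 1 * x 2 * x 3 * x 0) by group, e3, ← mul_assoc (x 0),
      ← (hzx 0).eq]
    group
  have hx0 : x 0 ≠ 1 := (H.S.toBase.mem_X.1 (hxX 0)).2.2.1
  rcases hFeq P ⟨hPQ, Subgroup.mem_centralizer_singleton_iff.2 hPt⟩ with h | h | h | h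
  · exfalso
    rw [h, one_mul, mul_one] at hP0
    exact H.S.z_ne (mul_eq_right.1 hP0.symm)
  · exfalso
    rw [h, ← (hzx 0).eq] at hP0
    exact H.S.z_ne (mul_eq_right.1 hP0.symm)
  · exact ⟨k, x, H, kinj, krange, hxQ, hxsq, hanti, hxc, by rw [hx4]; exact h.symm⟩
  · refine ⟨k, fun i => x i * z, H, kinj, krange, fun i => Q.mul_mem (hxQ i) H.S.z_mem, fun i => ?_,
      fun i j hij => ?_, fun p i => ?_, ?_⟩
    · show x i * z * (x i * z) = 1
      rw [(hzx i).mul_mul_mul_comm, hxsq, one_mul, H.S.z_sq]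
    · show x i * z * (x j * z) = z * (x j * z * (x i * z))
      rw [(hzx j).mul_mul_mul_comm, (hzx i).mul_mul_mul_comm, hanti i j hij, mul_assoc]
    · show k p * (x i * z) * (k p)⁻¹ = x (p.1 i) * z
      rw [hzc, hxc]
    · show x 4 * z = x 0 * z * (x 1 * z) * (x 2 * z) * (x 3 * z)
      rw [(hzx 1).mul_mul_mul_comm, H.S.z_sq, mul_one, mul_assoc (x 0 * x 1),
        (hzx 3).mul_mul_mul_comm, H.S.z_sq, mul_one, hx4, ← h, hP]
      exact mul_assoc _ _ _

namespace Frame

variable {z : G} {Q K C : Subgroup G} {k : alternatingGroup (Fin 5) →* G} {x : Fin 5 → G}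
  [Finite G] (F : Frame z Q K C k x)
include F

omit F in
/-- The element of the extraspecial group. -/
def E (z : G) (x : Fin 5 → G) : QM → G := fun (e, a0, a1, a2, a3) =>
  (if e then z else 1) * (if a0 then x 0 else 1) * (if a1 then x 1 else 1) * (if a2 then x 2 else 1) *
    (if a3 then x 3 else 1)

omit F in
/-- The map from the model. -/
def Φ (z : G) (k : alternatingGroup (Fin 5) →* G) (x : Fin 5 → G) : MC → G := fun (v, p) => E z x v * k p

theorem comm_z (i : Fin 5) : Commute z (x i) := (F.core.S.mul_z (F.x_mem i)).symm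

theorem zz : z * z = 1 := F.core.S.z_sq

theorem E_flip (v : QM) : E z x (qflip v) = z * E z x v := by
  obtain ⟨e, a0, a1, a2, a3⟩ := v
  cases e <;> simp [E, qflip, F.zz, ← mul_assoc]

theorem E_mul_z (v : QM) : E z x v * z = z * E z x v := by
  have h1 : ∀ b : Bool, Commute z (if b then z else 1) := fun b => by cases b <;> simp
  have h2 : ∀ (b : Bool) i, Commute z (if b then x i else 1) := fun b i => by cases b <;> simp [F.comm_z i]
  obtain ⟨e, a0, a1, a2, a3⟩ := v
  exact ((((((h1 e).mul_right (h2 a0 0)).mul_right (h2 a1 1)).mul_right (h2 a2 2)).mul_right (h2 a3 3))).eq.symm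

theorem z_left (i : Fin 5) (a : G) : x i * (z * a) = z * (x i * a) := by
  rw [← mul_assoc, ← (F.comm_z i).eq, mul_assoc]

theorem swap_left {i j : Fin 5} (h : i ≠ j) (a : G) : x i * (x j * a) = z * (x j * (x i * a)) := by
  rw [← mul_assoc, F.x_anti i j h, mul_assoc, mul_assoc]

theorem E_mul_gen (i : Fin 4) (v : QM) :
    E z x v * x i.castSucc = E z x (qmul v (qgen i.castSucc)) := by
  have hz : ∀ a, z * (z * a) = a := fun a => by rw [← mul_assoc, F.zz, one_mul]
  have hs : ∀ i a, x i * (x i * a) = a := fun i a => by rw [← mul_assoc, F.x_sq, one_mul]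
  obtain ⟨e, a0, a1, a2, a3⟩ := v
  fin_cases i <;> cases e <;> cases a0 <;> cases a1 <;> cases a2 <;> cases a3 <;>
    simp [E, qmul, qgen, mul_assoc, F.x_sq, hs, hz, F.zz, F.z_left,
      F.x_anti 3 2 (by decide), F.x_anti 3 1 (by decide), F.x_anti 3 0 (by decide),
      F.x_anti 2 1 (by decide), F.x_anti 2 0 (by decide), F.x_anti 1 0 (by decide),
      F.swap_left (i := 3) (j := 2) (by decide), F.swap_left (i := 3) (j := 1) (by decide),
      F.swap_left (i := 3) (j := 0) (by decide), F.swap_left (i := 2) (j := 1) (by decide),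
      F.swap_left (i := 2) (j := 0) (by decide), F.swap_left (i := 1) (j := 0) (by decide)]

theorem E_mul (v w : QM) : E z x (qmul v w) = E z x v * E z x w := by
  obtain ⟨f, b0, b1, b2, b3⟩ := w
  have hb : ∀ (u : QM) (b : Bool) (i : Fin 4),
      E z x (qmul u (if b then qgen i.castSucc else qone)) = E z x u * (if b then x i.castSucc else 1) := by
    intro u b i
    cases b
    · obtain ⟨e, a0, a1, a2, a3⟩ := u; simp [qmul, qone, E]
    · exact (F.E_mul_gen i u).symm
  have hf : ∀ u : QM, E z x (qmul u (f, false, false, false, false)) = E z x u * (if f then z else 1) := by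
    intro u
    obtain ⟨e, a0, a1, a2, a3⟩ := u
    cases f
    · simp [qmul, E]
    · rw [if_pos rfl, F.E_mul_z, ← F.E_flip]
      congr 1
      cases e <;> cases a0 <;> cases a1 <;> cases a2 <;> cases a3 <;> rfl
  rw [qmul_assoc4 v f b0 b1 b2 b3]
  refine ((hb _ b3 3).trans ?_)
  rw [show (2 : Fin 5) = (2 : Fin 4).castSucc from rfl, hb _ b2 2,
    show (1 : Fin 5) = (1 : Fin 4).castSucc from rfl, hb _ b1 1,
    show (0 : Fin 5) = (0 : Fin 4).castSucc from rfl, hb _ b0 0, hf]
  simp only [E]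
  simp [mul_assoc]

theorem E_gen (i : Fin 5) : E z x (qgen i) = x i := by
  fin_cases i <;> simp [E, qgen, F.x_prod]

theorem E_one : E z x qone = 1 := by simp [E, qone]

theorem E_act (p : alternatingGroup (Fin 5)) (v : QM) : k p * E z x v * (k p)⁻¹ = E z x (qact p v) := by
  have hz : k p * z * (k p)⁻¹ = z := mul_inv_eq_iff_eq_mul.2
    (F.core.S.z_cen _ (F.core.S.K_le (F.k_range ▸ ⟨p, rfl⟩)))
  have h1 : ∀ b : Bool, k p * (if b then z else 1) * (k p)⁻¹ = E z x (b, false, false, false, false) := by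
    intro b; cases b <;> simp [hz, E]
  have h2 : ∀ (b : Bool) i, k p * (if b then x i else 1) * (k p)⁻¹ = E z x (if b then qgen (p.1 i) else qone) := by
    intro b i; cases b
    · simp [F.E_one]
    · simp [F.x_conj, F.E_gen]
  obtain ⟨e, a0, a1, a2, a3⟩ := v
  simp only [qact, F.E_mul, ← h2, ← h1]
  simp only [E]
  group

theorem Φ_mul (a b : MC) : Φ z k x (mmul a b) = Φ z k x a * Φ z k x b := by
  obtain ⟨v, p⟩ := a
  obtain ⟨w, r⟩ := b
  show E z x (qmul v (qact p w)) * k (p * r) = E z x v * k p * (E z x w * k r)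
  rw [F.E_mul, ← F.E_act, map_mul]
  group

theorem Φ_one : Φ z k x mone = 1 := by simp [Φ, mone, F.E_one]

theorem E_mem (v : QM) : E z x v ∈ Q := by
  obtain ⟨e, a0, a1, a2, a3⟩ := v
  refine Q.mul_mem (Q.mul_mem (Q.mul_mem (Q.mul_mem ?_ ?_) ?_) ?_) ?_ <;>
    split <;> first | exact Q.one_mem | exact F.x_mem _ | exact F.core.S.z_mem

theorem Φ_mem (a : MC) : Φ z k x a ∈ C :=
  C.mul_mem (F.core.S.Q_le (F.E_mem _)) (F.core.S.K_le (F.k_range ▸ ⟨a.2, rfl⟩))

theorem Φ_injective : Function.Injective (Φ z k x) := by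
  have hone : ∀ v : QM, E z x v = 1 → v = qone := by
    intro v hv
    rcases qflip_or v with h | h | ⟨i, hi⟩
    · exact h
    · rw [h, F.E_flip, F.E_one, mul_one] at hv
      exact absurd hv F.core.S.z_ne
    · exfalso
      have := congrArg (E z x) hi
      rw [F.E_flip, F.E_mul, F.E_mul, hv, one_mul, mul_one] at this
      exact F.core.S.z_ne (mul_eq_right.1 this.symm)
  intro a b h
  obtain ⟨v, p⟩ := a
  obtain ⟨w, r⟩ := b
  obtain ⟨h1, h2⟩ := F.core.decomp_unique (F.E_mem v) (F.E_mem w) (F.k_range ▸ ⟨p, rfl⟩) (F.k_range ▸ ⟨r, rfl⟩) h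
  refine Prod.ext ?_ (F.k_inj h2)
  -- the inverse of `w`
  obtain ⟨w', hw'⟩ := qinv_exists w
  exact qcancel v w w' (hone _ (by rw [F.E_mul, h1, ← F.E_mul, hw', F.E_one])) hw'

theorem exists_Φ {a : G} (ha : a ∈ C) : ∃ m, Φ z k x m = a := by
  let f : MC → C := fun m => ⟨Φ z k x m, F.Φ_mem m⟩
  have hf : Function.Injective f := fun a b h => F.Φ_injective (congrArg Subtype.val h)
  have hc : Nat.card MC = Nat.card C := by
    rw [F.core.card_C, Nat.card_prod, card_alt5]
    simp [Nat.card_eq_fintype_card]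
  obtain ⟨m, hm⟩ := ((Nat.bijective_iff_injective_and_card f).2 ⟨hf, hc⟩).2 ⟨a, ha⟩
  exact ⟨m, congrArg Subtype.val hm⟩

end Frame

end CfsgLib.J2Uniq
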