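import Cfsg.Agent.Lib.J2Type.Seven

/-!
Groups of Hall–Janko type: the centraliser `3 . A6` of an element of order three, through orders only.
-/

set_option autoImplicit false

open scoped Classical Pointwise

namespace CfsgLib.J2Type

open CfsgLib.J2Order

variable {G : Type*} [Group G] [Finite G] {z t g : G} {Q K C V M0 : Subgroup G}

/-- An element of order dividing `p` in a subgroup with a central Sylow `p`-subgroup of order `p`. -/
theorem mem_zpowers_of_central {H : Subgroup G} {p m : ℕ} [hp : Fact p.Prime] {r : G} (hr : r ∈ H)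
    (hro : orderOf r = p) (hc : ∀ h ∈ H, Commute h r) (hH : Nat.card H = p * m) (hm : ¬ p ∣ m) {w : G}
    (hw : w ∈ H) (hwp : w ^ p = 1) : w ∈ Subgroup.zpowers r := by
  obtain ⟨T, hT⟩ := (IsPGroup.of_card (p := p) (G := Subgroup.zpowers (⟨r, hr⟩ : H)) (n := 1)
    (by rw [Nat.card_zpowers, Subgroup.orderOf_mk, hro, pow_one])).exists_le_sylow
  have hTp : Nat.card T = p :=
    (card_sylow_of (p := p) (n := 1) (m := m) (by rw [hH, pow_one]) hm T).trans (pow_one p)
  have hTr : (T : Subgroup H) = Subgroup.zpowers (⟨r, hr⟩ : H) := (Subgroup.eq_of_le_of_card_ge hT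
    (by rw [hTp, Nat.card_zpowers, Subgroup.orderOf_mk, hro])).symm
  obtain ⟨c, hcH, y, hy, hye⟩ := mem_conj_sylow T hw ⟨1, by rw [pow_one]; exact hwp⟩
  rw [hTr] at hy
  obtain ⟨j, hj⟩ := Subgroup.mem_zpowers_iff.1 hy
  have hj' : r ^ j = c * w * c⁻¹ := by rw [← hye, ← hj, SubgroupClass.coe_zpow]
  refine Subgroup.mem_zpowers_iff.2 ⟨j, ?_⟩
  have h1 : c⁻¹ * r ^ j * c = r ^ j := by
    rw [mul_assoc, ← ((hc c hcH).zpow_right j).eq, inv_mul_cancel_left]
  rw [← h1, hj']; group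

namespace Cent

variable (D : Cent z t Q K C V M0 g)
include D

/-- The two classes of elements of order three, relative to any element of `R` centralising `z`. -/
theorem r_data {r : G} (hr : r ∈ D.R) (hro : orderOf r = 3) (hrz : r * z = z * r) :
    ¬ IsConj g r ∧ (∀ c : G, orderOf c = 3 → IsConj c g ∨ IsConj c r) ∧
    ∀ P : Sylow 3 G, (∀ a : G, a ∈ P → a ^ 3 = 1) ∧ Nat.card P = 27 := by
  obtain ⟨r0, -, -, -, -, hall, hP⟩ := D.three_main
  have hne : ¬ IsConj g r := by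
    intro h
    obtain ⟨u, hu⟩ := isConj_iff.1 h
    refine D.g_not_z (i := u⁻¹ * z * u⁻¹⁻¹) (isConj_iff.2 ⟨u, by group⟩) ?_
    have e : g = u⁻¹ * r * u⁻¹⁻¹ := by rw [← hu]; group
    rw [e]
    exact ((Commute.conj_iff _).2 (show Commute r z from hrz).symm).eq
  refine ⟨hne, fun c hc => ?_, fun P => ⟨(hP P).1, (hP P).2.2.1⟩⟩
  rcases hall r hro with h | h
  · exact absurd h.symm hne
  · rcases hall c hc with h' | h'
    · exact Or.inl h'
    · exact Or.inr (h'.trans h.symm)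

/-- An element of `C` of order three is inverted inside `C`. -/
theorem inverted_inside {x : G} (hx : x ∈ C) (hxo : orderOf x = 3) : ∃ s ∈ C, s * x * s⁻¹ = x⁻¹ := by
  obtain ⟨d, hd, hdo, c, hc, e⟩ := D.three_in_C hx hxo
  obtain ⟨ψ⟩ := D.pair.S.equivK
  set dK : K := ⟨d, hd⟩
  obtain ⟨i, -, -, hi⟩ := alt5_three_inv (ψ dK)
    (by rw [← map_pow, show dK ^ 3 = 1 from Subtype.ext (by rw [SubgroupClass.coe_pow, ← hdo]; exact pow_orderOf_eq_one d), map_one])
  have h' : ψ.symm i * dK * (ψ.symm i)⁻¹ = dK⁻¹ := ψ.injective (by simp [hi])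
  have h2 : ((ψ.symm i : K) : G) * d * ((ψ.symm i : K) : G)⁻¹ = d⁻¹ := congrArg Subtype.val h'
  refine ⟨c⁻¹ * ((ψ.symm i : K) : G) * c,
    C.mul_mem (C.mul_mem (C.inv_mem hc) (D.pair.S.K_le (SetLike.coe_mem _))) hc, ?_⟩
  rw [show c⁻¹ * ((ψ.symm i : K) : G) * c * x * (c⁻¹ * ((ψ.symm i : K) : G) * c)⁻¹ =
    c⁻¹ * (((ψ.symm i : K) : G) * (c * x * c⁻¹) * ((ψ.symm i : K) : G)⁻¹) * c by group, e, h2, ← e]
  group

/-- The centraliser of `r` is transitive on the involutions it contains. -/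
theorem invol_conj_r {r i : G} (hr : r ∈ D.R) (hro : orderOf r = 3) (hrz : r * z = z * r)
    (hi : orderOf i = 2) (hir : i * r = r * i) : ∃ u : G, u * r = r * u ∧ u * i * u⁻¹ = z := by
  haveI : Fact (Nat.Prime 3) := ⟨Nat.prime_three⟩
  obtain ⟨hne, -, -⟩ := D.r_data hr hro hrz
  obtain ⟨u, hu⟩ := isConj_iff.1 (D.invol_z_of_three hro hne hi hir)
  have hx : u * r * u⁻¹ ∈ C := (D.pair.hyp.mem_C _).2 (by
    rw [← hu]; exact ((Commute.conj_iff u).2 (show Commute i r from hir).symm).eq)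
  have hrC : r ∈ C := (D.pair.hyp.mem_C r).2 hrz
  have hxo : orderOf (u * r * u⁻¹) = 3 := by rw [orderOf_conjg, hro]
  obtain ⟨T, hT⟩ := (IsPGroup.of_card (p := 3) (G := Subgroup.zpowers (⟨r, hrC⟩ : C)) (n := 1)
    (by rw [Nat.card_zpowers, Subgroup.orderOf_mk, hro, pow_one])).exists_le_sylow
  have hT3 : Nat.card T = 3 :=
    (card_sylow_of (p := 3) (n := 1) (m := 640) (by rw [D.pair.hyp.card_C]; norm_num) (by norm_num) T).trans
      (pow_one 3)
  have hTr : (T : Subgroup C) = Subgroup.zpowers (⟨r, hrC⟩ : C) := (Subgroup.eq_of_le_of_card_ge hT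
    (by rw [hT3, Nat.card_zpowers, Subgroup.orderOf_mk, hro])).symm
  obtain ⟨c, hc, w, hw, hwe⟩ := mem_conj_sylow T hx ⟨1, by rw [pow_one, ← hxo, pow_orderOf_eq_one]⟩
  rw [hTr] at hw
  have hwr : (w : G) ∈ Subgroup.zpowers r := by
    obtain ⟨j, hj⟩ := Subgroup.mem_zpowers_iff.1 hw
    exact Subgroup.mem_zpowers_iff.2 ⟨j, by rw [← hj, SubgroupClass.coe_zpow]⟩
  obtain ⟨s, hs, hse⟩ : ∃ s ∈ C, s * (u * r * u⁻¹) * s⁻¹ = r := by
    have hr3 : r ^ 3 = 1 := hro ▸ pow_orderOf_eq_one r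
    rcases mem_zpowers_three hr3 hwr with e | e | e <;> rw [hwe] at e
    · rw [conj_eq_one_iff] at e; rw [e, orderOf_one] at hxo; omega
    · exact ⟨c, hc, e⟩
    · obtain ⟨s, hs, hse⟩ := D.inverted_inside hrC hro
      refine ⟨s * c, C.mul_mem hs hc, ?_⟩
      rw [show s * c * (u * r * u⁻¹) * (s * c)⁻¹ = s * (c * (u * r * u⁻¹) * c⁻¹) * s⁻¹ by group, e,
        show r ^ 2 = r⁻¹ from eq_inv_of_mul_eq_one_right (by rw [← pow_succ', hr3]),
        show s * r⁻¹ * s⁻¹ = (s * r * s⁻¹)⁻¹ by group, hse, inv_inv]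
  refine ⟨s * u, mul_inv_eq_iff_eq_mul.1 ?_, ?_⟩
  · rw [show s * u * r * (s * u)⁻¹ = s * (u * r * u⁻¹) * s⁻¹ by group, hse]
  · rw [show s * u * i * (s * u)⁻¹ = s * (u * i * u⁻¹) * s⁻¹ by group, hu,
      ((D.pair.hyp.mem_C s).1 hs), mul_inv_cancel_right]

theorem card_cent_r {r : G} (hr : r ∈ D.R) (hro : orderOf r = 3) (hrz : r * z = z * r) :
    Nat.card (Subgroup.centralizer ({r} : Set G)) = 1080 := by
  obtain ⟨hne, hall, hexp⟩ := D.r_data hr hro hrz
  obtain ⟨⟨q, hq⟩, h25⟩ := D.cent_r_dvd hr hro hrz hall hexp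
  have h7 := D.seven_not_dvd_r hr hro hrz hne hall hexp
  have h16 := D.not_sixteen_dvd hro hne
  have hdG := Subgroup.card_subgroup_dvd_card (Subgroup.centralizer ({r} : Set G))
  rw [D.order] at hdG
  rw [hq] at h25 h7 h16 hdG ⊢
  have hq560 : q ∣ 560 := Nat.dvd_of_mul_dvd_mul_left (k := 1080) (by norm_num) hdG
  have hq2 : ¬ 2 ∣ q := fun ⟨m, hm⟩ => h16 ⟨135 * m, by rw [hm]; ring⟩
  have hq5 : ¬ 5 ∣ q := fun ⟨m, hm⟩ => h25 ⟨216 * m, by rw [hm]; ring⟩
  have hq7 : ¬ 7 ∣ q := fun ⟨m, hm⟩ => h7 ⟨1080 * m, by rw [hm]; ring⟩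
  have hc : Nat.Coprime q (2 ^ 4 * 5 * 7) := by
    refine Nat.Coprime.mul_right (Nat.Coprime.mul_right ?_ ?_) ?_
    · exact ((Nat.prime_two.coprime_iff_not_dvd.2 hq2).pow_left 4).symm
    · exact ((Nat.prime_five.coprime_iff_not_dvd.2 hq5)).symm
    · exact (((by norm_num : Nat.Prime 7).coprime_iff_not_dvd.2 hq7)).symm
  rw [hc.eq_one_of_dvd (by simpa using hq560), mul_one]

/-- An element of `C(r)` centralising an involution there has fourth power in `⟨r⟩`. -/
theorem pow_four_mem {r i x : G} (hr : r ∈ D.R) (hro : orderOf r = 3) (hrz : r * z = z * r)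
    (hi : orderOf i = 2) (hir : i * r = r * i) (hxi : x * i = i * x) (hxr : x * r = r * x) :
    x ^ 4 ∈ Subgroup.zpowers r := by
  obtain ⟨u, hur, hui⟩ := D.invol_conj_r hr hro hrz hi hir
  have hrC : r ∈ C := (D.pair.hyp.mem_C r).2 hrz
  obtain ⟨d, hd, hdo, c, hc, e⟩ := D.three_in_C hrC hro
  set y := c * (u * x * u⁻¹) * c⁻¹ with hy
  have huxz : u * x * u⁻¹ ∈ C := (D.pair.hyp.mem_C _).2 (by
    rw [← hui]; exact ((Commute.conj_iff u).2 (show Commute x i from hxi)).eq)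
  have hyC : y ∈ C := C.mul_mem (C.mul_mem hc huxz) (C.inv_mem hc)
  have hurr : u * r * u⁻¹ = r := by rw [hur, mul_inv_cancel_right]
  have hyd : y * d = d * y := by
    rw [← e, hy]
    refine ((Commute.conj_iff c).2 ?_).eq
    conv => arg 2; rw [← hurr]
    exact (Commute.conj_iff u).2 (show Commute x r from hxr)
  obtain ⟨q, hq, k, hk, hqk⟩ := D.pair.S.decomp y hyC
  rw [hqk] at hyd
  obtain ⟨h1, h2⟩ := D.pair.hyp.commute_decomp hq hk hd hyd
  obtain ⟨ψ⟩ := D.pair.S.equivK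
  set dK : K := ⟨d, hd⟩
  have hd3 : d ^ 3 = 1 := hdo ▸ pow_orderOf_eq_one d
  have hd1 : d ≠ 1 := fun h => by rw [h, orderOf_one] at hdo; omega
  have hm := Subgroup.mem_zpowers d
  have hkd : k ∈ Subgroup.zpowers d := by
    rcases alt5_three_cent (ψ dK) (by rw [← map_pow, show dK ^ 3 = 1 from Subtype.ext hd3, map_one])
      (fun h => hd1 (congrArg Subtype.val (ψ.injective (h.trans (map_one ψ).symm)))) (ψ ⟨k, hk⟩)
      (by rw [← map_mul, ← map_mul, show (⟨k, hk⟩ : K) * dK = dK * ⟨k, hk⟩ from Subtype.ext h1]) with h | h | h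
    · rw [show k = 1 from congrArg Subtype.val (ψ.injective (h.trans (map_one ψ).symm))]
      exact Subgroup.one_mem _
    · rw [show k = d from congrArg Subtype.val (ψ.injective h)]; exact hm
    · rw [← map_pow] at h
      rw [show k = d ^ 2 from congrArg Subtype.val (ψ.injective h)]; exact Subgroup.pow_mem _ hm _
  have hqk' : Commute q k := by
    obtain ⟨j, rfl⟩ := Subgroup.mem_zpowers_iff.1 hkd
    exact (show Commute q d from h2).zpow_right j
  have hq4 : q ^ 4 = 1 := by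
    rw [show q ^ 4 = q * q * (q * q) by simp only [pow_succ, pow_zero, one_mul, mul_assoc]]
    rcases D.pair.S.toBase.sq q hq with h | h <;> rw [h]
    · rw [mul_one]
    · exact D.pair.S.z_sq
  obtain ⟨j, hj⟩ := Subgroup.mem_zpowers_iff.1 (show y ^ 4 ∈ Subgroup.zpowers d by
    rw [hqk, hqk'.mul_pow, hq4, one_mul]; exact Subgroup.pow_mem _ hkd 4)
  refine Subgroup.mem_zpowers_iff.2 ⟨j, ?_⟩
  rw [hy, conj_pow, conj_pow, ← e, conj_zpow] at hj
  have h4 : r ^ j = u * x ^ 4 * u⁻¹ := mul_left_cancel (mul_right_cancel hj)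
  have h5 : u⁻¹ * r ^ j * u = r ^ j := by
    rw [mul_assoc, ← ((show Commute u r from hur).zpow_right j).eq, inv_mul_cancel_left]
  rw [← h5, h4]; group

/-- An element of order five of `C(r)`: its centraliser there and its square. -/
theorem five_in_r {r y : G} (hr : r ∈ D.R) (hro : orderOf r = 3) (hrz : r * z = z * r)
    (hy : orderOf y = 5) (hyr : y * r = r * y) :
    Nat.card (Subgroup.centralizer ({r} : Set G) ⊓ Subgroup.centralizer ({y} : Set G) : Subgroup G) = 15 ∧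
      ∀ u : G, u * y * u⁻¹ ≠ y ^ 2 ∧ u * y * u⁻¹ ≠ y ^ 3 := by
  haveI : Fact (Nat.Prime 5) := ⟨Nat.prime_five⟩
  obtain ⟨hne, hall, hexp⟩ := D.r_data hr hro hrz
  obtain ⟨-, h25⟩ := D.cent_r_dvd hr hro hrz hall hexp
  obtain ⟨f, f1, hf, hfo, hfsc, hfns, -⟩ := D.five_main
  set L := Subgroup.centralizer ({r} : Set G) with hL
  have hfL : f ∈ L := Subgroup.mem_centralizer_singleton_iff.2 (D.R_comm hr hf).symm
  have hyL : y ∈ L := Subgroup.mem_centralizer_singleton_iff.2 hyr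
  obtain ⟨T, hT⟩ := (IsPGroup.of_card (p := 5) (G := Subgroup.zpowers (⟨f, hfL⟩ : L)) (n := 1)
    (by rw [Nat.card_zpowers, Subgroup.orderOf_mk, hfo, pow_one])).exists_le_sylow
  have hT5 : Nat.card T = 5 :=
    (card_sylow_of (p := 5) (n := 1) (m := 216) (by rw [hL, D.card_cent_r hr hro hrz]; norm_num) (by norm_num) T).trans
      (pow_one 5)
  have hTf : (T : Subgroup L) = Subgroup.zpowers (⟨f, hfL⟩ : L) := (Subgroup.eq_of_le_of_card_ge hT
    (by rw [hT5, Nat.card_zpowers, Subgroup.orderOf_mk, hfo])).symm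
  obtain ⟨c, hc, w, hw, hwe⟩ := mem_conj_sylow T hyL ⟨1, by rw [pow_one, ← hy, pow_orderOf_eq_one]⟩
  rw [hTf] at hw
  obtain ⟨j, hj⟩ := Subgroup.mem_zpowers_iff.1 hw
  have hcy : c * y * c⁻¹ ∈ Subgroup.zpowers f :=
    Subgroup.mem_zpowers_iff.2 ⟨j, by rw [← hwe, ← hj, SubgroupClass.coe_zpow]⟩
  have hy1 : c * y * c⁻¹ ≠ 1 := fun e => by
    rw [conj_eq_one_iff] at e; rw [e, orderOf_one] at hy; omega
  have hz' := zpowers_eq_of_mem hfo hcy hy1
  constructor
  · rw [← D.cent_rf hr hro h25 hf hfo hfsc, ← centralizer_eq_of_zpowers hz',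
      ← Subgroup.card_map_of_injective (K := L ⊓ Subgroup.centralizer ({y} : Set G))
        (f := (MulAut.conj c).toMonoidHom) (MulAut.conj c).injective]
    refine congrArg (fun S : Subgroup G => Nat.card S) (le_antisymm ?_ ?_)
    · rintro _ ⟨s, ⟨hs1, hs2⟩, rfl⟩
      exact ⟨L.mul_mem (L.mul_mem hc hs1) (L.inv_mem hc), Subgroup.mem_centralizer_singleton_iff.2
        ((Commute.conj_iff c).2 (show Commute s y from Subgroup.mem_centralizer_singleton_iff.1 hs2)).eq⟩
    · rintro s ⟨hs1, hs2⟩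
      refine ⟨c⁻¹ * s * c, ⟨L.mul_mem (L.mul_mem (L.inv_mem hc) hs1) hc, Subgroup.mem_centralizer_singleton_iff.2 ?_⟩,
        show c * (c⁻¹ * s * c) * c⁻¹ = s by group⟩
      have h := (Commute.conj_iff c⁻¹).2 (show Commute s (c * y * c⁻¹) from
        Subgroup.mem_centralizer_singleton_iff.1 hs2)
      rw [show c⁻¹ * (c * y * c⁻¹) * c⁻¹⁻¹ = y by group, inv_inv] at h
      exact h.eq
  · obtain ⟨n, hn⟩ := mem_powers_iff_mem_zpowers.2 (hz'.ge (Subgroup.mem_zpowers f))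
    have key : ∀ v : G, v * y * v⁻¹ ≠ y ^ 2 := by
      intro v h
      apply hfns (c * v * c⁻¹)
      have h' : c * v * c⁻¹ * (c * y * c⁻¹) * (c * v * c⁻¹)⁻¹ = (c * y * c⁻¹) ^ 2 := by
        rw [show c * v * c⁻¹ * (c * y * c⁻¹) * (c * v * c⁻¹)⁻¹ = c * (v * y * v⁻¹) * c⁻¹ by group, h, conj_pow]
      change (c * y * c⁻¹) ^ n = f at hn
      rw [← hn, ← conj_pow, h', ← pow_mul, ← pow_mul, mul_comm]
    refine fun u => ⟨key u, fun h => key u⁻¹ ?_⟩
    have e2 : y = (u⁻¹ * y * u⁻¹⁻¹) ^ 3 := by rw [conj_pow, ← h]; group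
    have h6 : (u⁻¹ * y * u⁻¹⁻¹) ^ 5 = 1 := by
      rw [conj_pow, show y ^ 5 = 1 from hy ▸ pow_orderOf_eq_one y]; group
    calc u⁻¹ * y * u⁻¹⁻¹ = (u⁻¹ * y * u⁻¹⁻¹) ^ (5 + 1) := by rw [pow_succ, h6, one_mul]
      _ = y ^ 2 := by rw [show 5 + 1 = 3 * 2 from rfl, pow_mul, ← e2]

/-- Powers of the elements of `C(r)`. -/
theorem order_cases {r x : G} (hr : r ∈ D.R) (hro : orderOf r = 3) (hrz : r * z = z * r)
    (hxr : x * r = r * x) :
    x ^ 3 ∈ Subgroup.zpowers r ∨ x ^ 4 ∈ Subgroup.zpowers r ∨ x ^ 5 ∈ Subgroup.zpowers r := by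
  haveI : Fact (Nat.Prime 2) := ⟨Nat.prime_two⟩
  haveI : Fact (Nat.Prime 3) := ⟨Nat.prime_three⟩
  haveI : Fact (Nat.Prime 5) := ⟨Nat.prime_five⟩
  obtain ⟨-, -, hexp⟩ := D.r_data hr hro hrz
  set L := Subgroup.centralizer ({r} : Set G) with hL
  have hcard : Nat.card L = 1080 := D.card_cent_r hr hro hrz
  have hxL : x ∈ L := Subgroup.mem_centralizer_singleton_iff.2 hxr
  have hn : orderOf x ∣ 1080 := hcard ▸ Subgroup.orderOf_dvd_natCard _ hxL
  have hxn := pow_orderOf_eq_one x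
  by_cases h2 : 2 ∣ orderOf x
  · obtain ⟨m, hm⟩ := h2
    have hi : orderOf (x ^ m) = 2 := by
      refine orderOf_eq_prime (by rw [← pow_mul, mul_comm, ← hm]; exact hxn) fun e => ?_
      have hd := orderOf_dvd_of_pow_eq_one e
      have hpos := orderOf_pos x
      have := Nat.le_of_dvd (by omega) hd
      omega
    exact Or.inr (Or.inl (D.pow_four_mem hr hro hrz hi
      ((show Commute x r from hxr).pow_left m).eq (Commute.self_pow x m).eq hxr))
  have h135 : orderOf x ∣ 135 := by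
    have hc : Nat.Coprime (orderOf x) (2 ^ 3) := ((Nat.prime_two.coprime_iff_not_dvd.2 h2).pow_left 3).symm
    exact hc.dvd_of_dvd_mul_left (show orderOf x ∣ 2 ^ 3 * 135 by simpa using hn)
  have hx135 : x ^ 135 = 1 := orderOf_dvd_iff_pow_eq_one.1 h135
  by_cases h27 : x ^ 27 = 1
  · left
    have hp : IsPGroup 3 (Subgroup.zpowers x) := by
      intro a
      obtain ⟨j, hj⟩ := Subgroup.mem_zpowers_iff.1 a.2
      refine ⟨3, Subtype.ext ?_⟩
      rw [SubgroupClass.coe_pow, ← hj, ← zpow_natCast, ← zpow_mul, mul_comm, zpow_mul, zpow_natCast,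
        show (3 : ℕ) ^ 3 = 27 by norm_num, h27, one_zpow]
      rfl
    obtain ⟨P, hP⟩ := hp.exists_le_sylow
    rw [(hexp P).1 x (hP (Subgroup.mem_zpowers x))]
    exact Subgroup.one_mem _
  right; right
  have hyo : orderOf (x ^ 27) = 5 := orderOf_eq_prime (by rw [← pow_mul]; exact hx135) h27
  obtain ⟨h15, -⟩ := D.five_in_r hr hro hrz hyo ((show Commute x r from hxr).pow_left 27).eq
  set H := L ⊓ Subgroup.centralizer ({x ^ 27} : Set G) with hH
  have hrH : r ∈ H := ⟨Subgroup.mem_centralizer_singleton_iff.2 rfl,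
    Subgroup.mem_centralizer_singleton_iff.2 ((show Commute x r from hxr).pow_left 27).eq.symm⟩
  have hxH : x ∈ H := ⟨hxL, Subgroup.mem_centralizer_singleton_iff.2 (Commute.self_pow x 27).eq⟩
  have h15x : x ^ 15 = 1 := by
    have := orderOf_dvd_iff_pow_eq_one.1 (Subgroup.orderOf_dvd_natCard _ hxH)
    rwa [h15] at this
  exact mem_zpowers_of_central (p := 3) (m := 5) hrH hro
    (fun h hh => Subgroup.mem_centralizer_singleton_iff.1 hh.1) (by rw [h15]) (by norm_num)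
    (H.pow_mem hxH 5) (by rw [← pow_mul]; exact h15x)

/-- A subgroup of `C(r)` containing `r` whose order is divisible by 8, 9 and 5 is the whole of `C(r)`. -/
theorem sub_r_eq {r : G} (hr : r ∈ D.R) (hro : orderOf r = 3) (hrz : r * z = z * r) (H : Subgroup G)
    (hH : H ≤ Subgroup.centralizer ({r} : Set G)) (hrH : r ∈ H) (h8 : 8 ∣ Nat.card H) (h9 : 9 ∣ Nat.card H)
    (h5 : 5 ∣ Nat.card H) : H = Subgroup.centralizer ({r} : Set G) := by
  haveI := Fintype.ofFinite G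
  haveI : Fact (Nat.Prime 5) := ⟨Nat.prime_five⟩
  have hcard := D.card_cent_r hr hro hrz
  obtain ⟨q, hq⟩ : 360 ∣ Nat.card H := by
    have := Nat.lcm_dvd (Nat.lcm_dvd h8 h9) h5
    rwa [show Nat.lcm (Nat.lcm 8 9) 5 = 360 by decide +kernel] at this
  have hq3 : q ∣ 3 := Nat.dvd_of_mul_dvd_mul_left (k := 360) (by norm_num)
    (by rw [← hq, show 360 * 3 = 1080 from rfl, ← hcard]; exact Subgroup.card_dvd_of_le hH)
  rcases (Nat.dvd_prime Nat.prime_three).1 hq3 with rfl | rfl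
  swap
  · exact Subgroup.eq_of_le_of_card_ge hH (by rw [hq, hcard])
  exfalso
  obtain ⟨y, hyo⟩ := exists_prime_orderOf_dvd_card' (G := H) 5 h5
  have hyG : orderOf (y : G) = 5 := (Subgroup.orderOf_coe y).trans hyo
  obtain ⟨h15, hns⟩ := D.five_in_r hr hro hrz hyG (Subgroup.mem_centralizer_singleton_iff.1 (hH y.2))
  obtain ⟨T, hT⟩ := (IsPGroup.of_card (p := 5) (G := Subgroup.zpowers y) (n := 1)
    (by rw [Nat.card_zpowers, hyo, pow_one])).exists_le_sylow
  have hT5 : Nat.card T = 5 :=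
    (card_sylow_of (p := 5) (n := 1) (m := 72) (by rw [hq]; norm_num) (by norm_num) T).trans (pow_one 5)
  have hTy : (T : Subgroup H) = Subgroup.zpowers y := (Subgroup.eq_of_le_of_card_ge hT
    (by rw [hT5, Nat.card_zpowers, hyo])).symm
  set N := Subgroup.normalizer ((T : Subgroup H) : Set H) with hN
  set A := Subgroup.centralizer ({y} : Set H) with hA
  have hA15 : Nat.card A = 15 := by
    refine Nat.dvd_antisymm ?_ ?_
    · rw [← h15, ← Subgroup.card_map_of_injective (K := A) (Subgroup.subtype_injective H)]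
      refine Subgroup.card_dvd_of_le ?_
      rintro _ ⟨s, hs, rfl⟩
      exact ⟨hH s.2, Subgroup.mem_centralizer_singleton_iff.2
        (congrArg Subtype.val (Subgroup.mem_centralizer_singleton_iff.1 hs))⟩
    · have hyA : y ∈ A := Subgroup.mem_centralizer_singleton_iff.2 rfl
      have hrA : (⟨r, hrH⟩ : H) ∈ A := Subgroup.mem_centralizer_singleton_iff.2 (Subtype.ext
        (Subgroup.mem_centralizer_singleton_iff.1 (hH y.2)).symm)
      have h5' : 5 ∣ Nat.card A := hyo ▸ Subgroup.orderOf_dvd_natCard _ hyA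
      have h3' : 3 ∣ Nat.card A := by
        have := Subgroup.orderOf_dvd_natCard _ hrA
        rwa [Subgroup.orderOf_mk, hro] at this
      exact Nat.Coprime.mul_dvd_of_dvd_of_dvd (by norm_num : Nat.Coprime 3 5) h3' h5'
  have hAN : A ≤ N := by
    refine le_trans ?_ (show Subgroup.centralizer ((T : Subgroup H) : Set H) ≤ N from ?_)
    · intro s hs
      rw [Subgroup.mem_centralizer_iff]
      intro w hw
      rw [SetLike.mem_coe, hTy] at hw
      obtain ⟨i, rfl⟩ := Subgroup.mem_zpowers_iff.1 hw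
      exact ((show Commute y s from (Subgroup.mem_centralizer_singleton_iff.1 hs).symm).zpow_left i).eq
    · intro s hs
      rw [Subgroup.mem_centralizer_iff] at hs
      refine Subgroup.mem_normalizer_iff.2 fun w => ⟨fun hw => ?_, fun hw => ?_⟩
      · rw [← hs w hw, mul_inv_cancel_right]; exact hw
      · have h' := hs _ hw
        have e : w = s * w * s⁻¹ := by
          calc w = s⁻¹ * (s * w * s⁻¹ * s) := by group
            _ = s * w * s⁻¹ := by rw [h']; group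
        exact e ▸ hw
  have horb : ∀ n ∈ N, n * y * n⁻¹ = y ∨ n * y * n⁻¹ = y ^ 4 := by
    intro n hn
    have hm : n * y * n⁻¹ ∈ Subgroup.zpowers y :=
      hTy ▸ (Subgroup.mem_normalizer_iff.1 hn y).1 (hT (Subgroup.mem_zpowers y))
    obtain ⟨i, hi⟩ := mem_powers_iff_mem_zpowers.2 hm
    replace hi : y ^ i = n * y * n⁻¹ := hi
    rw [← pow_mod_orderOf, hyo] at hi
    have hlt : i % 5 < 5 := Nat.mod_lt _ (by norm_num)
    have hG : ∀ k : ℕ, y ^ k = n * y * n⁻¹ → (n : G) * y * (n : G)⁻¹ = (y : G) ^ k := fun k e => by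
      simpa using (congrArg Subtype.val e).symm
    interval_cases h5' : i % 5
    · exfalso
      rw [pow_zero, eq_comm, conj_eq_one_iff] at hi
      rw [hi, orderOf_one] at hyo; omega
    · left; rw [← hi, pow_one]
    · exact absurd (hG 2 hi) (hns n).1
    · exact absurd (hG 3 hi) (hns n).2
    · right; exact hi.symm
  have horbit := card_orbit (G := H) N y
  rw [← hA, inf_eq_right.2 hAN, hA15] at horbit
  have hidx := N.card_mul_index
  have hmod : N.index ≡ 1 [MOD 5] := by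
    have h1 := card_sylow_modEq_one 5 H
    rwa [Sylow.card_eq_index_normalizer T] at h1
  rw [hq, ← horbit] at hidx
  have key : ∀ k n : ℕ, k ≤ 2 → k * 15 * n = 360 * 1 → n % 5 = 1 % 5 → False := by
    intro k n h1 h2 h3
    interval_cases k <;> omega
  refine key _ _ ?_ hidx hmod
  refine card_le_two_of _ y (y ^ 4) fun w hw => ?_
  simp only [Finset.mem_image] at hw
  obtain ⟨n, hn, rfl⟩ := hw
  exact horb n (Finset.mem_filter.1 hn).2

end Cent

end CfsgLib.J2Type
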