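import Cfsg.Agent.Lib.CosetEnum.Use
import Cfsg.Agent.Lib.J2Uniq.DataA

/-!
Kernel checks of coset enumeration data.
-/

set_option autoImplicit false

namespace CfsgLib.J2Uniq
open CfsgLib.CosetEnum

theorem certC_complete : certC.Complete :=
  Cert.complete_of _ 13 11 (by decide +kernel) (by decide +kernel) (by decide +kernel)
    (by decide +kernel) (by decide +kernel)

theorem certL_complete : certL.Complete :=
  Cert.complete_of _ 8 6 (by decide +kernel) (by decide +kernel) (by decide +kernel)
    (by decide +kernel) (by decide +kernel)

theorem certM_complete : certM.Complete :=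
  Cert.complete_of _ 12 9 (by decide +kernel) (by decide +kernel) (by decide +kernel)
    (by decide +kernel) (by decide +kernel)

end CfsgLib.J2Uniq
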