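import Cfsg.Agent.Lib.CosetEnum.Use
import Cfsg.Agent.Lib.J2Uniq.DataJ

/-!
Kernel checks of coset enumeration data.
-/

set_option autoImplicit false

namespace CfsgLib.J2Uniq
open CfsgLib.CosetEnum

theorem certJ0_complete : certJ0.Complete :=
  Cert.complete_of _ 4 0 (by decide +kernel) (by decide +kernel) (by decide +kernel)
    (by decide +kernel) (by decide +kernel)

theorem certJ1_complete : certJ1.Complete :=
  Cert.complete_of _ 7 0 (by decide +kernel) (by decide +kernel) (by decide +kernel)
    (by decide +kernel) (by decide +kernel)

theorem certJ2_complete : certJ2.Complete :=
  Cert.complete_of _ 7 0 (by decide +kernel) (by decide +kernel) (by decide +kernel)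
    (by decide +kernel) (by decide +kernel)

theorem certJ3_complete : certJ3.Complete :=
  Cert.complete_of _ 7 0 (by decide +kernel) (by decide +kernel) (by decide +kernel)
    (by decide +kernel) (by decide +kernel)

theorem certJ4_complete : certJ4.Complete :=
  Cert.complete_of _ 7 0 (by decide +kernel) (by decide +kernel) (by decide +kernel)
    (by decide +kernel) (by decide +kernel)

theorem certJ5_complete : certJ5.Complete :=
  Cert.complete_of _ 7 0 (by decide +kernel) (by decide +kernel) (by decide +kernel)
    (by decide +kernel) (by decide +kernel)

theorem certJ6_complete : certJ6.Complete :=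
  Cert.complete_of _ 7 0 (by decide +kernel) (by decide +kernel) (by decide +kernel)
    (by decide +kernel) (by decide +kernel)

theorem certJ7_complete : certJ7.Complete :=
  Cert.complete_of _ 11 0 (by decide +kernel) (by decide +kernel) (by decide +kernel)
    (by decide +kernel) (by decide +kernel)

theorem certJ8_complete : certJ8.Complete :=
  Cert.complete_of _ 11 0 (by decide +kernel) (by decide +kernel) (by decide +kernel)
    (by decide +kernel) (by decide +kernel)

theorem certJ9_complete : certJ9.Complete :=
  Cert.complete_of _ 11 0 (by decide +kernel) (by decide +kernel) (by decide +kernel)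
    (by decide +kernel) (by decide +kernel)

theorem certJ10_complete : certJ10.Complete :=
  Cert.complete_of _ 11 0 (by decide +kernel) (by decide +kernel) (by decide +kernel)
    (by decide +kernel) (by decide +kernel)

theorem certJ11_complete : certJ11.Complete :=
  Cert.complete_of _ 11 0 (by decide +kernel) (by decide +kernel) (by decide +kernel)
    (by decide +kernel) (by decide +kernel)

theorem certJ13_complete : certJ13.Complete :=
  Cert.complete_of _ 11 0 (by decide +kernel) (by decide +kernel) (by decide +kernel)
    (by decide +kernel) (by decide +kernel)

theorem certJ14_complete : certJ14.Complete :=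
  Cert.complete_of _ 11 0 (by decide +kernel) (by decide +kernel) (by decide +kernel)
    (by decide +kernel) (by decide +kernel)

end CfsgLib.J2Uniq
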