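import Cfsg.Agent.Lib.CosetEnum.Use
import Cfsg.Agent.Lib.J2Uniq.DataX

/-!
Kernel checks of coset enumeration data.
-/

set_option autoImplicit false

namespace CfsgLib.J2Uniq
open CfsgLib.CosetEnum

theorem certX3c0_complete : certX3c0.Complete :=
  Cert.complete_of _ 8 0 (by decide +kernel) (by decide +kernel) (by decide +kernel)
    (by decide +kernel) (by decide +kernel)

theorem certX3c1_complete : certX3c1.Complete :=
  Cert.complete_of _ 8 0 (by decide +kernel) (by decide +kernel) (by decide +kernel)
    (by decide +kernel) (by decide +kernel)

theorem certX3c2_complete : certX3c2.Complete :=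
  Cert.complete_of _ 8 0 (by decide +kernel) (by decide +kernel) (by decide +kernel)
    (by decide +kernel) (by decide +kernel)

theorem certX5c0_complete : certX5c0.Complete :=
  Cert.complete_of _ 12 0 (by decide +kernel) (by decide +kernel) (by decide +kernel)
    (by decide +kernel) (by decide +kernel)

theorem certX5c1_complete : certX5c1.Complete :=
  Cert.complete_of _ 12 0 (by decide +kernel) (by decide +kernel) (by decide +kernel)
    (by decide +kernel) (by decide +kernel)

theorem certX5c2_complete : certX5c2.Complete :=
  Cert.complete_of _ 12 0 (by decide +kernel) (by decide +kernel) (by decide +kernel)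
    (by decide +kernel) (by decide +kernel)

theorem certY3c0_complete : certY3c0.Complete :=
  Cert.complete_of _ 10 0 (by decide +kernel) (by decide +kernel) (by decide +kernel)
    (by decide +kernel) (by decide +kernel)

theorem certY3c1_complete : certY3c1.Complete :=
  Cert.complete_of _ 10 0 (by decide +kernel) (by decide +kernel) (by decide +kernel)
    (by decide +kernel) (by decide +kernel)

theorem certY3c2_complete : certY3c2.Complete :=
  Cert.complete_of _ 11 0 (by decide +kernel) (by decide +kernel) (by decide +kernel)
    (by decide +kernel) (by decide +kernel)

theorem certY4c0_complete : certY4c0.Complete :=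
  Cert.complete_of _ 13 0 (by decide +kernel) (by decide +kernel) (by decide +kernel)
    (by decide +kernel) (by decide +kernel)

theorem certY4c1_complete : certY4c1.Complete :=
  Cert.complete_of _ 12 0 (by decide +kernel) (by decide +kernel) (by decide +kernel)
    (by decide +kernel) (by decide +kernel)

theorem certY4c2_complete : certY4c2.Complete :=
  Cert.complete_of _ 12 0 (by decide +kernel) (by decide +kernel) (by decide +kernel)
    (by decide +kernel) (by decide +kernel)

end CfsgLib.J2Uniq
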