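import Cfsg.Agent.Lib.J2Uniq.CentR
import Cfsg.Agent.Lib.J2Uniq.Model

/-!
Groups of Hall–Janko type: normalised generators.
-/

set_option autoImplicit false

namespace CfsgLib.J2Uniq

open CfsgLib.J2Type CfsgLib.J2Order CfsgLib.CosetEnum

local notation "A₅" => alternatingGroup (Fin 5)

/-- `x₄` in the model -/
def mX4 : MC := (qgen 4, 1)
/-- `z` in the model -/
def mZ : MC := (qflip qone, 1)
/-- `x₀` in the model -/
def mX0 : MC := (qgen 0, 1)
/-- `x₀ x₁` in the model -/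
def mY : MC := (qmul (qgen 0) (qgen 1), 1)
/-- a permutation in the model -/
def mp (p : A₅) : MC := (qone, p)
/-- the image of `x₀ x₁` under `g` -/
def mGY : MC := (qmul (qgen 0) (qgen 2), pt'')

set_option synthInstance.maxSize 2000 in
set_option synthInstance.maxHeartbeats 200000 in
theorem dec_r : ∀ m : MC, mmul (mmul m m) m = mone → m ≠ mone → mmul m mX4 = mmul mX4 m →
    mmul (mmul (mmul m (mp pt)) (mmul m m)) (mp pt) = mmul (mp pt) (mmul (mmul m (mp pt)) (mmul m m)) →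
    (mmul (mmul (mmul m (mp pt)) (mmul m m)) (mp pt)).2 ≠ 1 →
    mmul (mmul (mmul m m) (mp pt)) m = mmul (mmul (mmul m (mp pt)) (mmul m m)) (mp pt) →
    m.1 = qone ∧ m.2.1 4 = 4 ∧ m.2 ^ 3 = 1 ∧ m.2 ≠ 1 ∧
      (m.2 * pt * m.2⁻¹ = pt' ∨ m.2 * pt * m.2⁻¹ = pt'') := by decide +kernel

theorem dec_stab : ∀ p : A₅, p.1 4 = 4 → p ^ 3 = 1 → p ≠ 1 → ∀ q : A₅, q.1 4 = 4 →
    ∃ a ∈ [1, pt, pt', pt''], ∃ b ∈ [1, p, p * p], q = a * b := by decide +kernel

set_option synthInstance.maxSize 2000 in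
set_option synthInstance.maxHeartbeats 100000 in
theorem dec_gz : ∀ m : MC, m.2 = 1 → mmul m (mp pt) = mmul (mp pt) m → mmul m m = mone → m ≠ mone →
    m ≠ mZ → m = mX4 ∨ m = mmul mX4 mZ := by decide +kernel

set_option synthInstance.maxSize 2000 in
theorem dec_gy : ∀ m : MC, mmul m m = mX4 → mmul (mmul (mp pt) m) (mp pt) = mmul m mX4 →
    mmul (mmul m (mmul (mmul (mp pr) m) (mp (pr * pr)))) (mmul (mmul (mp (pr * pr)) m) (mp pr)) = mone →
    m = mGY := by decide +kernel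

set_option synthInstance.maxSize 2000 in
theorem dec_u : ∀ m : MC, mmul m mX4 = mmul mX4 m →
    mmul m (mp pt) = mmul (mmul (mmul (mmul mX0 mGY) (mp pt)) mX0) m →
    mmul m (mp pr) = mmul (mmul (mmul (mmul mX0 mGY) (mp pr)) mX0) m →
    mmul m mY = mmul (mmul (mmul (mmul (mmul (mmul mX0 mX4) mGY) (mmul mX4 mZ)) (mp pt'')) mX0) m →
    m = mp ps ∨ m = mmul (mp ps) mX4 ∨ m = mmul (mp ps) mZ ∨ m = mmul (mp ps) (mmul mX4 mZ) := by
  decide +kernel

variable {G : Type*} [Group G] [Finite G] {z : G} {Q K C V M0 : Subgroup G}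
  {k : alternatingGroup (Fin 5) →* G} {x : Fin 5 → G} {g : G}

/-- Normalised generators. -/
structure Gens (z : G) (Q K C V M0 : Subgroup G) (k : alternatingGroup (Fin 5) →* G) (x : Fin 5 → G) (g : G) :
    Prop where
  frame : Frame z Q K C k x
  cent : Cent z (k pt) Q K C V M0 g
  stab : ∀ p : alternatingGroup (Fin 5), p.1 4 = 4 → k p ∈ cent.R
  g_z : g * z * g⁻¹ = x 4
  g_x4 : g * x 4 * g⁻¹ = x 4 * z
  g_y : g * (x 0 * x 1) * g⁻¹ = x 0 * x 2 * k pt''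
  g_sq : x 0 * g * (x 0 * g) = k ps

/-- Replace the element of order three. -/
theorem cent_change {t g' : G} (D : Cent z t Q K C V M0 g) (h0 : g' ∈ M0) (h3 : g' ^ 3 = 1) (h1 : g' ≠ 1)
    (hc : g' * z * g'⁻¹ * z = z * (g' * z * g'⁻¹)) : Cent z t Q K C V M0 g' :=
  { D with g_mem := h0, g_three := h3, g_ne := h1, g_z := hc }

namespace Frame

variable (F : Frame z Q K C k x)
include F

theorem Φ_k (p : alternatingGroup (Fin 5)) : Frame.Φ z k x (mp p) = k p := by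
  show Frame.E z x qone * k p = k p
  rw [F.E_one, one_mul]

theorem Φ_gen (i : Fin 5) : Frame.Φ z k x (qgen i, 1) = x i := by simp [Frame.Φ, F.E_gen]

theorem Φ_X4 : Frame.Φ z k x mX4 = x 4 := F.Φ_gen 4

theorem Φ_X0 : Frame.Φ z k x mX0 = x 0 := F.Φ_gen 0

theorem Φ_Z : Frame.Φ z k x mZ = z := by simp [Frame.Φ, mZ, F.E_flip, F.E_one]

theorem Φ_Y : Frame.Φ z k x mY = x 0 * x 1 := by simp [Frame.Φ, mY, F.E_mul, F.E_gen]

theorem Φ_GY : Frame.Φ z k x mGY = x 0 * x 2 * k pt'' := by simp [Frame.Φ, mGY, F.E_mul, F.E_gen]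

theorem eq_of {a b : MC} {u v : G} (ha : Frame.Φ z k x a = u) (hb : Frame.Φ z k x b = v) (h : u = v) : a = b :=
  F.Φ_injective (ha.trans (h.trans hb.symm))

theorem ident {a b : MC} {u v : G} (h : a = b) (ha : Frame.Φ z k x a = u) (hb : Frame.Φ z k x b = v) :
    u = v := by rw [← ha, ← hb, h]

theorem x_ne (i : Fin 5) : x i ≠ 1 := by
  intro h
  obtain ⟨j, hj⟩ : ∃ j : Fin 5, i ≠ j := exists_ne i |>.imp fun _ h => h.symm
  have := F.x_anti i j hj
  rw [h, one_mul, mul_one] at this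
  exact F.core.S.z_ne (mul_eq_right.1 this.symm)

theorem k_comm_x {p : A₅} {i : Fin 5} (h : p.1 i = i) : k p * x i = x i * k p := by
  have := F.x_conj p i
  rw [h] at this
  exact mul_inv_eq_iff_eq_mul.1 this

theorem k_x (p : A₅) (i : Fin 5) : k p * x i = x (p.1 i) * k p := by
  rw [← F.x_conj p i, inv_mul_cancel_right]

theorem z_k (p : A₅) : k p * z = z * k p :=
  F.core.S.z_cen _ (F.core.S.K_le (F.k_range ▸ ⟨p, rfl⟩))

end Frame

set_option maxHeartbeats 1600000 in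
theorem exists_gens (H : Hyp z Q K C) :
    ∃ (V M0 : Subgroup G) (k : alternatingGroup (Fin 5) →* G) (x : Fin 5 → G) (g : G),
      Gens z Q K C V M0 k x g := by
  haveI := Fintype.ofFinite G
  obtain ⟨k, x, F⟩ := exists_frame H.toCore
  have kK : ∀ p, k p ∈ K := fun p => F.k_range ▸ ⟨p, rfl⟩
  have kne : ∀ p, p ≠ 1 → k p ≠ 1 := fun p hp h => hp (F.k_inj (h.trans k.map_one.symm))
  have P : Pair z (k pt) Q K C :=
    ⟨H, kK _, by rw [← map_mul, show pt * pt = 1 by decide +kernel, map_one], kne _ (by decide +kernel)⟩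
  obtain ⟨V, M0, g0, D0⟩ := P.exists_cent
  set t := k pt with ht
  have hx4t : x 4 * t = t * x 4 := (F.k_comm_x (p := pt) (by decide +kernel)).symm
  have hx4z : IsConj (x 4) z := H.Qz _ (F.x_mem 4) (orderTwo_of (F.x_ne 4) (F.x_sq 4))
  have hx4M : x 4 ∈ M0 := D0.z_type hx4t hx4z
  have hVt : ∀ v ∈ V, v ≠ 1 → v ∉ Q := fun v hv h1 hq => P.not_conj
    ((H.Qz v hq (orderTwo_of h1 (D0.V_sq v hv))).symm.trans (D0.V_t hv h1))
  -- the element of `R`
  obtain ⟨r', hr', hr'o, hr't, hr'z, -⟩ := D0.exists_r'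
  obtain ⟨m, hm⟩ := F.exists_Φ ((H.mem_C r').2 hr'z)
  have hr3 : r' ^ 3 = 1 := hr'o ▸ pow_orderOf_eq_one r'
  have hr'inv : r'⁻¹ = r' * r' := by
    rw [inv_eq_of_mul_eq_one_right]; rw [← hr3, pow_succ, pow_two]; exact (mul_assoc _ _ _).symm
  have huV : r' * t * r'⁻¹ ∈ V := D0.R_V hr' D0.t_mem
  have hΦu : Frame.Φ z k x (mmul (mmul m (mp pt)) (mmul m m)) = r' * t * r'⁻¹ := by
    rw [F.Φ_mul, F.Φ_mul, F.Φ_mul, hm, F.Φ_k, hr'inv]
  obtain ⟨hm1, hm4, hm3, hmne, hmt⟩ := dec_r m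
    (F.eq_of (by rw [F.Φ_mul, F.Φ_mul, hm]) F.Φ_one (by rw [← hr3, pow_succ, pow_two]))
    (fun e => by
      rw [e, F.Φ_one] at hm
      rw [← hm, orderOf_one] at hr'o; omega)
    (F.eq_of (by rw [F.Φ_mul, hm, F.Φ_X4]) (by rw [F.Φ_mul, hm, F.Φ_X4]) (D0.R_comm hr' hx4M))
    (F.eq_of (by rw [F.Φ_mul, hΦu, F.Φ_k]) (by rw [F.Φ_mul, hΦu, F.Φ_k])
      (D0.V_comm huV (show t * t = t * t from rfl)))
    (fun e => by
      refine hVt _ (V.mul_mem huV D0.t_mem) (fun h => hr't (mul_inv_eq_iff_eq_mul.1 ?_)) ?_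
      · rw [eq_inv_of_mul_eq_one_left h]; exact inv_eq_of_mul_eq_one_right P.t_sq
      · rw [show r' * t * r'⁻¹ * t = Frame.Φ z k x (mmul (mmul (mmul m (mp pt)) (mmul m m)) (mp pt)) by
          rw [F.Φ_mul, hΦu, F.Φ_k]]
        show Frame.E z x _ * k (mmul (mmul (mmul m (mp pt)) (mmul m m)) (mp pt)).2 ∈ Q
        rw [e, map_one, mul_one]
        exact F.E_mem _)
    (F.eq_of (by rw [F.Φ_mul, F.Φ_mul, F.Φ_mul, hm, F.Φ_k]) (by rw [F.Φ_mul, hΦu, F.Φ_k]) (by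
      classical
      set u := r' * t * r'⁻¹ with hu
      have e2 : r' * r' * t * r' = r' * u * r'⁻¹ := by
        rw [hu, show r' * (r' * t * r'⁻¹) * r'⁻¹ = r' * r' * t * (r'⁻¹ * r'⁻¹) by group, hr'inv,
          show r' * r' * (r' * r') = r' ^ 3 * r' by simp only [pow_succ, pow_zero, one_mul, mul_assoc],
          hr3, one_mul]
      rw [e2]
      have hcard : ({w | w ∈ V} : Finset G).card = 4 := by
        rw [← Fintype.card_subtype, ← Nat.card_eq_fintype_card]; exact D0.cardV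
      have hu1 : u ≠ 1 := fun h => P.t_ne (conj_eq_one_iff.1 h)
      have hut : u ≠ t := fun h => hr't (mul_inv_eq_iff_eq_mul.1 h)
      have hset : ({1, t, u, u * t} : Finset G) = ({w | w ∈ V} : Finset G) := by
        refine Finset.eq_of_subset_of_card_le ?_ ?_
        · intro w hw
          simp only [Finset.mem_insert, Finset.mem_singleton] at hw
          refine Finset.mem_filter.2 ⟨Finset.mem_univ _, ?_⟩
          rcases hw with rfl | rfl | rfl | rfl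
          exacts [V.one_mem, D0.t_mem, huV, V.mul_mem huV D0.t_mem]
        · rw [hcard, Finset.card_insert_of_notMem, Finset.card_insert_of_notMem, Finset.card_pair]
          · exact fun h => P.t_ne (mul_eq_left.1 h.symm)
          · simp only [Finset.mem_insert, Finset.mem_singleton, not_or]
            exact ⟨hut.symm, fun h => hu1 (mul_eq_right.1 h.symm)⟩
          · simp only [Finset.mem_insert, Finset.mem_singleton, not_or]
            refine ⟨P.t_ne.symm, hu1.symm, fun h => hut ?_⟩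
            rw [eq_inv_of_mul_eq_one_left h.symm]; exact inv_eq_of_mul_eq_one_right P.t_sq
      have hw : r' * u * r'⁻¹ ∈ ({1, t, u, u * t} : Finset G) := by
        rw [hset]; exact Finset.mem_filter.2 ⟨Finset.mem_univ _, D0.R_V hr' huV⟩
      simp only [Finset.mem_insert, Finset.mem_singleton] at hw
      rcases hw with h | h | h | h
      · exact absurd (conj_eq_one_iff.1 h) hu1
      · exfalso
        apply hr't
        rw [← e2] at h
        calc r' * t = r' * (r' * r' * t * r') := by rw [h]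
          _ = r' ^ 3 * t * r' := by simp only [pow_succ, pow_zero, one_mul, mul_assoc]
          _ = t * r' := by rw [hr3, one_mul]
      · exfalso
        exact hut (mul_left_cancel (mul_right_cancel h))
      · exact h))
  have hrk : r' = k m.2 := by
    rw [← hm]
    show Frame.E z x m.1 * k m.2 = k m.2
    rw [hm1, F.E_one, one_mul]
  have hV4 : ∀ a ∈ [1, pt, pt', pt''], k a ∈ V := by
    have hu : k (m.2 * pt * m.2⁻¹) ∈ V := by rw [map_mul, map_mul, map_inv, ← hrk]; exact huV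
    intro a ha
    simp only [List.mem_cons, List.not_mem_nil, or_false] at ha
    rcases hmt with e | e <;> rw [e] at hu <;> rcases ha with rfl | rfl | rfl | rfl
    · rw [map_one]; exact V.one_mem
    · exact D0.t_mem
    · exact hu
    · rw [show pt'' = pt * pt' by decide +kernel, map_mul]; exact V.mul_mem D0.t_mem hu
    · rw [map_one]; exact V.one_mem
    · exact D0.t_mem
    · rw [show pt' = pt * pt'' by decide +kernel, map_mul]; exact V.mul_mem D0.t_mem hu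
    · exact hu
  have hstab : ∀ p : alternatingGroup (Fin 5), p.1 4 = 4 → k p ∈ D0.R := by
    intro p hp
    obtain ⟨a, ha, b, hb, rfl⟩ := dec_stab m.2 hm4 hm3 hmne p hp
    rw [map_mul]
    refine D0.R.mul_mem (D0.V_le_R (hV4 a ha)) ?_
    simp only [List.mem_cons, List.not_mem_nil, or_false] at hb
    rcases hb with rfl | rfl | rfl
    · rw [map_one]; exact D0.R.one_mem
    · rw [← hrk]; exact hr'
    · rw [map_mul, ← hrk]; exact D0.R.mul_mem hr' hr'
  -- the element of `M0`: its action on `z`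
  obtain ⟨g1, hg1M, hg13, hg11, hg1z⟩ : ∃ g1 ∈ M0, g1 ^ 3 = 1 ∧ g1 ≠ 1 ∧ g1 * z * g1⁻¹ = x 4 := by
    set u := g0 * z * g0⁻¹ with hu
    have huC : u ∈ C := (H.mem_C u).2 D0.g_z
    have hut : u * t = t * u := by
      have h1 : g0 * t = t * g0 := (D0.comm t D0.t_mem g0 D0.g_mem).symm
      have h2 : z * t = t * z := (D0.comm t D0.t_mem z D0.z_mem).symm
      have h := (Commute.conj_iff g0).2 (show Commute z t from h2)
      rw [show g0 * t * g0⁻¹ = t from mul_inv_eq_iff_eq_mul.2 h1] at h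
      exact h.eq
    have huconj : IsConj u z := (isConj_iff.2 ⟨g0, rfl⟩).symm
    have hu2 : u * u = 1 := by
      rw [hu, show g0 * z * g0⁻¹ * (g0 * z * g0⁻¹) = g0 * (z * z) * g0⁻¹ by group, H.toCore.S.z_sq]; group
    have hu1 : u ≠ 1 := fun h => H.toCore.S.z_ne (conj_eq_one_iff.1 h)
    obtain ⟨n, hn⟩ := F.exists_Φ huC
    have hn2 : n.2 = 1 := by
      by_contra hne
      refine P.not_conj (huconj.symm.trans (P.Cz u huC (orderTwo_of hu1 hu2) fun hq => hne ?_))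
      obtain ⟨v, p⟩ := n
      have := H.decomp_unique (F.E_mem v) hq (kK p) K.one_mem (by rw [mul_one]; exact hn)
      exact F.k_inj (this.2.trans k.map_one.symm)
    have h3 : g0 ^ 3 = 1 := D0.g_three
    rcases dec_gz n hn2 (F.eq_of (by rw [F.Φ_mul, hn, F.Φ_k]) (by rw [F.Φ_mul, hn, F.Φ_k]) hut)
      (F.eq_of (by rw [F.Φ_mul, hn]) F.Φ_one hu2) (fun e => hu1 (by rw [← hn, e, F.Φ_one]))
      (fun e => D0.g_not_comm (mul_inv_eq_iff_eq_mul.1 (show u = z by rw [← hn, e, F.Φ_Z]))) with e | e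
    · exact ⟨g0, D0.g_mem, h3, D0.g_ne, by rw [← hu, ← hn, e, F.Φ_X4]⟩
    · refine ⟨g0⁻¹, M0.inv_mem D0.g_mem, by rw [inv_pow, h3, inv_one], inv_ne_one.2 D0.g_ne, ?_⟩
      have e1 : g0 * z * g0⁻¹ = x 4 * z := by rw [← hu, ← hn, e, F.Φ_mul, F.Φ_X4, F.Φ_Z]
      -- the third conjugate
      set w := g0 * u * g0⁻¹ with hw
      have hwz : w = g0⁻¹ * z * g0⁻¹⁻¹ := by
        rw [hw, hu, show g0 * (g0 * z * g0⁻¹) * g0⁻¹ = g0 ^ 3 * (g0⁻¹ * z * g0⁻¹⁻¹) * (g0 ^ 3)⁻¹ by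
          simp only [pow_succ, pow_zero, one_mul]; group, h3]
        group
      have hwC : w ∈ C := (H.mem_C w).2 (by
        have h := (Commute.conj_iff (g0 * g0)).2 (show Commute z u from D0.g_z.symm)
        rw [show g0 * g0 * u * (g0 * g0)⁻¹ = g0 ^ 3 * z * (g0 ^ 3)⁻¹ by
            rw [hu]; simp only [pow_succ, pow_zero, one_mul]; group,
          h3, one_mul, inv_one, mul_one,
          show g0 * g0 * z * (g0 * g0)⁻¹ = w by rw [hw, hu]; group] at h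
        exact h.eq)
      obtain ⟨n', hn'⟩ := F.exists_Φ hwC
      have hwt : w * t = t * w := by
        have h := (Commute.conj_iff g0).2 (show Commute u t from hut)
        rw [show g0 * t * g0⁻¹ = t from mul_inv_eq_iff_eq_mul.2 (D0.comm t D0.t_mem g0 D0.g_mem).symm] at h
        exact h.eq
      have hw2 : w * w = 1 := by
        rw [hw, show g0 * u * g0⁻¹ * (g0 * u * g0⁻¹) = g0 * (u * u) * g0⁻¹ by group, hu2]; group
      have hw1 : w ≠ 1 := fun h => hu1 (conj_eq_one_iff.1 h)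
      have hn'2 : n'.2 = 1 := by
        by_contra hne
        refine P.not_conj (((huconj.symm.trans (isConj_iff.2 ⟨g0, rfl⟩)) : IsConj z w).trans
          (P.Cz w hwC (orderTwo_of hw1 hw2) fun hq => hne ?_))
        obtain ⟨v, p⟩ := n'
        have := H.decomp_unique (F.E_mem v) hq (kK p) K.one_mem (by rw [mul_one]; exact hn')
        exact F.k_inj (this.2.trans k.map_one.symm)
      rcases dec_gz n' hn'2 (F.eq_of (by rw [F.Φ_mul, hn', F.Φ_k]) (by rw [F.Φ_mul, hn', F.Φ_k]) hwt)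
        (F.eq_of (by rw [F.Φ_mul, hn']) F.Φ_one hw2) (fun e => hw1 (by rw [← hn', e, F.Φ_one]))
        (fun e' => D0.g_not_comm (mul_inv_eq_iff_eq_mul.1 (show g0 * z * g0⁻¹ = z by
          have : w = z := by rw [← hn', e', F.Φ_Z]
          calc g0 * z * g0⁻¹ = g0 * w * g0⁻¹ := by rw [this]
            _ = g0 ^ 3 * z * (g0 ^ 3)⁻¹ := by rw [hw, hu]; simp only [pow_succ, pow_zero, one_mul]; group
            _ = z := by rw [h3]; group
          ))) with e' | e'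
      · rw [← hwz, ← hn', e', F.Φ_X4]
      · exfalso
        have : w = u := by rw [← hn, ← hn', e, e']
        apply D0.g_not_comm
        refine mul_inv_eq_iff_eq_mul.1 ?_
        exact mul_left_cancel (mul_right_cancel this)
  have hgt : g1 * t * g1⁻¹ = t := mul_inv_eq_iff_eq_mul.2 (D0.comm t D0.t_mem g1 hg1M).symm
  have hgk : ∀ p : alternatingGroup (Fin 5), p.1 4 = 4 → g1 * k p * g1⁻¹ = k p := fun p hp =>
    mul_inv_eq_iff_eq_mul.2 (D0.R_comm (hstab p hp) hg1M).symm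
  have hzx : ∀ i, z * x i = x i * z := fun i => (F.comm_z i).eq
  have hgc : g1 * z * g1⁻¹ * z = z * (g1 * z * g1⁻¹) := by rw [hg1z, hzx]
  have D1 := cent_change D0 hg1M hg13 hg11 hgc
  -- the action on `x 4`
  have hgx4 : g1 * x 4 * g1⁻¹ = x 4 * z := by
    set w := g1 * x 4 * g1⁻¹ with hw
    have e2 : g1 * w * g1⁻¹ = z := by
      rw [hw, ← hg1z, show g1 * (g1 * (g1 * z * g1⁻¹) * g1⁻¹) * g1⁻¹ = g1 ^ 3 * z * (g1 ^ 3)⁻¹ by
        simp only [pow_succ, pow_zero, one_mul]; group, hg13]; group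
    have hwC : w ∈ C := (H.mem_C w).2 (by
      have h := (Commute.conj_iff (g1 * g1)).2 (show Commute z (x 4) from hzx 4)
      rw [show g1 * g1 * z * (g1 * g1)⁻¹ = w by rw [hw, ← hg1z]; group,
        show g1 * g1 * x 4 * (g1 * g1)⁻¹ = g1 * w * g1⁻¹ by rw [hw]; group, e2] at h
      exact h.eq)
    obtain ⟨n, hn⟩ := F.exists_Φ hwC
    have hw2 : w * w = 1 := by
      rw [hw, show g1 * x 4 * g1⁻¹ * (g1 * x 4 * g1⁻¹) = g1 * (x 4 * x 4) * g1⁻¹ by group, F.x_sq]; group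
    have hw1 : w ≠ 1 := fun h => F.x_ne 4 (conj_eq_one_iff.1 h)
    have hwt : w * t = t * w := by
      have h := (Commute.conj_iff g1).2 (show Commute (x 4) t from hx4t)
      rw [hgt] at h
      exact h.eq
    have hn2 : n.2 = 1 := by
      by_contra hne
      refine P.not_conj ((hx4z.symm.trans (isConj_iff.2 ⟨g1, rfl⟩)).trans
        (P.Cz w hwC (orderTwo_of hw1 hw2) fun hq => hne ?_))
      obtain ⟨v, p⟩ := n
      have := H.decomp_unique (F.E_mem v) hq (kK p) K.one_mem (by rw [mul_one]; exact hn)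
      exact F.k_inj (this.2.trans k.map_one.symm)
    have hne4 : w ≠ x 4 := fun e => by
      have h : w = z := by conv_lhs => rw [hw, ← e]
                           exact e2
      exact D1.g_not_comm (mul_inv_eq_iff_eq_mul.1 (hg1z.trans (e.symm.trans h)))
    rcases dec_gz n hn2 (F.eq_of (by rw [F.Φ_mul, hn, F.Φ_k]) (by rw [F.Φ_mul, hn, F.Φ_k]) hwt)
      (F.eq_of (by rw [F.Φ_mul, hn]) F.Φ_one hw2) (fun e => hw1 (by rw [← hn, e, F.Φ_one]))
      (fun e => by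
        have h : g1 * w * g1⁻¹ = g1 * z * g1⁻¹ := by rw [← hn, e, F.Φ_Z]
        exact D1.g_not_comm (mul_inv_eq_iff_eq_mul.1 (h.symm.trans e2))) with e | e
    · exact absurd (by rw [← hn, e, F.Φ_X4]) hne4
    · rw [← hn, e, F.Φ_mul, F.Φ_X4, F.Φ_Z]
  -- the action on `x 0 * x 1`
  have hy4 : (x 0 * x 1) * x 4 = x 4 * (x 0 * x 1) := by
    rw [← F.Φ_Y, ← F.Φ_X4, ← F.Φ_mul, ← F.Φ_mul, show mmul mY mX4 = mmul mX4 mY by decide +kernel]
  set Y := g1 * (x 0 * x 1) * g1⁻¹ with hY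
  have hyz : Commute (x 0 * x 1) z := ((F.comm_z 0).mul_right (F.comm_z 1)).symm
  have hY4 : Y * (x 4 * z) = x 4 * z * Y := by
    rw [← hgx4]; exact ((Commute.conj_iff g1).2 (show Commute (x 0 * x 1) (x 4) from hy4)).eq
  have hYC : Y ∈ C := (H.mem_C Y).2 (by
    have h2 : Commute (x 0 * x 1) (g1⁻¹ * z * g1) := by
      have e : g1⁻¹ * z * g1 = x 4 * z := by
        rw [← hgx4, ← hg1z, show g1 * (g1 * z * g1⁻¹) * g1⁻¹ = g1 ^ 3 * (g1⁻¹ * z * g1) * (g1 ^ 3)⁻¹ *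
          1 by simp only [pow_succ, pow_zero, one_mul]; group, hg13]; group
      rw [e]; exact Commute.mul_right hy4 hyz
    have h := (Commute.conj_iff g1).2 h2
    rw [show g1 * (g1⁻¹ * z * g1) * g1⁻¹ = z by group] at h
    exact h.eq)
  obtain ⟨mY', hmY⟩ := F.exists_Φ hYC
  have hmYe : mY' = mGY := by
    refine dec_gy mY' (F.eq_of (by rw [F.Φ_mul, hmY]) F.Φ_X4 ?_)
      (F.eq_of (by rw [F.Φ_mul, F.Φ_mul, hmY, F.Φ_k]) (by rw [F.Φ_mul, hmY, F.Φ_X4]) ?_)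
      (F.eq_of (by simp only [F.Φ_mul, hmY, F.Φ_k]; rfl) F.Φ_one ?_)
    · rw [hY, show g1 * (x 0 * x 1) * g1⁻¹ * (g1 * (x 0 * x 1) * g1⁻¹) =
        g1 * (x 0 * x 1 * (x 0 * x 1)) * g1⁻¹ by group, ← hg1z]
      rw [F.ident (u := x 0 * x 1 * (x 0 * x 1)) (show mmul mY mY = mZ by decide +kernel) (by rw [F.Φ_mul, F.Φ_Y]) F.Φ_Z]
    · calc t * Y * t = g1 * t * g1⁻¹ * (g1 * (x 0 * x 1) * g1⁻¹) * (g1 * t * g1⁻¹) := by rw [hgt]
        _ = g1 * (k pt * (x 0 * x 1) * k pt) * g1⁻¹ := by rw [ht]; group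
        _ = g1 * (x 0 * x 1 * z) * g1⁻¹ := by
          rw [F.ident (u := k pt * (x 0 * x 1) * k pt) (v := x 0 * x 1 * z) (show mmul (mmul (mp pt) mY) (mp pt) = mmul mY mZ by decide +kernel)
            (by rw [F.Φ_mul, F.Φ_mul, F.Φ_k, F.Φ_Y]) (by rw [F.Φ_mul, F.Φ_Y, F.Φ_Z])]
        _ = Y * (g1 * z * g1⁻¹) := by rw [hY]; group
        _ = Y * x 4 := by rw [hg1z]
    · have e : ∀ a b c : G, g1 * a * g1⁻¹ * (g1 * b * g1⁻¹ * (g1 * a * g1⁻¹) * (g1 * c * g1⁻¹)) *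
          (g1 * c * g1⁻¹ * (g1 * a * g1⁻¹) * (g1 * b * g1⁻¹)) =
          g1 * (a * (b * a * c) * (c * a * b)) * g1⁻¹ := by intros; group
      have h := e (x 0 * x 1) (k pr) (k (pr * pr))
      rw [← hY, hgk pr (by decide +kernel), hgk (pr * pr) (by decide +kernel)] at h
      rw [h, F.ident (u := x 0 * x 1 * (k pr * (x 0 * x 1) * k (pr * pr)) * (k (pr * pr) * (x 0 * x 1) * k pr)) (show mmul (mmul mY (mmul (mmul (mp pr) mY) (mp (pr * pr))))
          (mmul (mmul (mp (pr * pr)) mY) (mp pr)) = mone by decide +kernel)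
        (by simp only [F.Φ_mul, F.Φ_Y, F.Φ_k]) F.Φ_one]
      group
  have hgy : Y = x 0 * x 2 * k pt'' := by rw [← hmY, hmYe, F.Φ_GY]
  -- the square of `x 0 * g`
  set u := x 0 * g1 * (x 0 * g1) with hu
  have hx0x0 : (x 0)⁻¹ = x 0 := inv_eq_of_mul_eq_one_right (F.x_sq 0)
  have conj_u : ∀ a, u * a * u⁻¹ = x 0 * (g1 * (x 0 * (g1 * a * g1⁻¹) * x 0) * g1⁻¹) * x 0 := by
    intro a
    rw [hu]
    simp only [mul_inv_rev, hx0x0, mul_assoc]
  have hG4 : g1 * (x 4 * z) * g1⁻¹ = z := by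
    rw [show g1 * (x 4 * z) * g1⁻¹ = g1 * x 4 * g1⁻¹ * (g1 * z * g1⁻¹) by group, hgx4, hg1z,
      mul_assoc, hzx 4, ← mul_assoc, F.x_sq, one_mul]
  have i1 : x 0 * x 4 * x 0 = x 4 * z :=
    F.ident (show mmul (mmul mX0 mX4) mX0 = mmul mX4 mZ by decide +kernel)
      (by rw [F.Φ_mul, F.Φ_mul, F.Φ_X0, F.Φ_X4]) (by rw [F.Φ_mul, F.Φ_X4, F.Φ_Z])
  have i2 : x 0 * (x 4 * z) * x 0 = x 4 :=
    F.ident (show mmul (mmul mX0 (mmul mX4 mZ)) mX0 = mX4 by decide +kernel)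
      (by rw [F.Φ_mul, F.Φ_mul, F.Φ_mul, F.Φ_X0, F.Φ_X4, F.Φ_Z]) F.Φ_X4
  have huz : u * z * u⁻¹ = z := by
    rw [conj_u, hg1z, i1, hG4, ← hzx 0, mul_assoc, F.x_sq, mul_one]
  have huC : u ∈ C := (H.mem_C u).2 (mul_inv_eq_iff_eq_mul.1 huz)
  obtain ⟨mu, hmu⟩ := F.exists_Φ huC
  have key : ∀ (a b : MC) (α β : G), Frame.Φ z k x a = α → Frame.Φ z k x b = β → u * α * u⁻¹ = β →
      mmul mu a = mmul b mu := fun a b α β ha hb h =>
    F.eq_of (by rw [F.Φ_mul, hmu, ha]) (by rw [F.Φ_mul, hmu, hb]) (mul_inv_eq_iff_eq_mul.1 h)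
  have hpart : ∀ p : alternatingGroup (Fin 5), p.1 4 = 4 → p.1 0 = 1 →
      u * k p * u⁻¹ = x 0 * (x 0 * x 2 * k pt'') * k p * x 0 := by
    intro p hp hp0
    have e : x 0 * k p * x 0 = x 0 * x 1 * k p := by rw [mul_assoc, F.k_x, hp0, ← mul_assoc]
    rw [conj_u, hgk _ hp, e,
      show g1 * (x 0 * x 1 * k p) * g1⁻¹ = g1 * (x 0 * x 1) * g1⁻¹ * (g1 * k p * g1⁻¹) by group,
      hgk _ hp, ← hY, hgy]
    simp only [mul_assoc]
  have i3 : x 0 * (x 0 * x 2 * k pt'') * x 0 = z * (x 0 * x 1) * x 4 * k pt'' :=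
    F.ident (show mmul (mmul mX0 mGY) mX0 = mmul (mmul (mmul mZ mY) mX4) (mp pt'') by decide +kernel)
      (by rw [F.Φ_mul, F.Φ_mul, F.Φ_X0, F.Φ_GY]) (by simp only [F.Φ_mul, F.Φ_Z, F.Φ_Y, F.Φ_X4, F.Φ_k])
  have hcases := dec_u mu
    (key _ _ _ _ F.Φ_X4 F.Φ_X4 (by rw [conj_u, hgx4, i2, hgx4, i2]))
    (key _ _ _ _ (F.Φ_k pt) (by simp only [F.Φ_mul, F.Φ_X0, F.Φ_GY, F.Φ_k])
      (hpart pt (by decide +kernel) (by decide +kernel)))
    (key _ _ _ _ (F.Φ_k pr) (by simp only [F.Φ_mul, F.Φ_X0, F.Φ_GY, F.Φ_k])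
      (hpart pr (by decide +kernel) (by decide +kernel)))
    (key _ _ _ _ F.Φ_Y rfl (by
      rw [conj_u, ← hY, hgy, i3,
        show g1 * (z * (x 0 * x 1) * x 4 * k pt'') * g1⁻¹ = g1 * z * g1⁻¹ * (g1 * (x 0 * x 1) * g1⁻¹) *
          (g1 * x 4 * g1⁻¹) * (g1 * k pt'' * g1⁻¹) by group,
        hg1z, ← hY, hgy, hgx4, hgk _ (by decide +kernel)]
      simp only [F.Φ_mul, F.Φ_X0, F.Φ_X4, F.Φ_GY, F.Φ_Z, F.Φ_k, mul_assoc]))
  have hps : ps.1 4 = 4 := by decide +kernel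
  have hgu : g1 * u * g1⁻¹ = x 0 * u * x 0 := by
    rw [hu]
    simp only [mul_assoc, mul_inv_cancel, mul_one]
    rw [← mul_assoc (x 0) (x 0), F.x_sq, one_mul]
  have hstep : ∀ e : MC, u = k ps * Frame.Φ z k x e → ∀ b : MC, g1 * Frame.Φ z k x e * g1⁻¹ = Frame.Φ z k x b →
      mmul (mp ps) b = mmul (mmul mX0 (mmul (mp ps) e)) mX0 := by
    intro e he b hb
    refine F.Φ_injective ?_
    simp only [F.Φ_mul, F.Φ_k, F.Φ_X0, ← hb, ← he]
    rw [← hgu, he, show g1 * (k ps * Frame.Φ z k x e) * g1⁻¹ = g1 * k ps * g1⁻¹ * (g1 * Frame.Φ z k x e * g1⁻¹) by group,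
      hgk _ hps]
  have base : ∀ {g : G} (hM : g ∈ M0) (h3 : g ^ 3 = 1) (hz : g * z * g⁻¹ = x 4) (h1 : g ≠ 1),
      g * x 4 * g⁻¹ = x 4 * z → g * (x 0 * x 1) * g⁻¹ = x 0 * x 2 * k pt'' → x 0 * g * (x 0 * g) = k ps →
      ∃ (V M0 : Subgroup G) (k : alternatingGroup (Fin 5) →* G) (x : Fin 5 → G) (g : G),
        Gens z Q K C V M0 k x g := fun {g} hM h3 hz h1 a b c =>
    ⟨V, M0, k, x, g, F, cent_change D0 hM h3 h1 (by rw [hz, hzx]), hstab, hz, a, b, c⟩
  rcases hcases with e | e | e | e <;> rw [e] at hmu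
  · rw [F.Φ_k] at hmu
    exact base hg1M hg13 hg1z hg11 hgx4 hgy hmu.symm
  · rw [F.Φ_mul, F.Φ_k, F.Φ_X4] at hmu
    have hzM := D0.z_mem
    have gz : g1 * z * g1 = g1 * g1 * (x 4 * z) := by
      rw [← hgx4, ← hg1z, show g1 * g1 * (g1 * (g1 * z * g1⁻¹) * g1⁻¹) = g1 ^ 3 * (g1 * z * g1⁻¹ * g1⁻¹) by
        simp only [pow_succ, pow_zero, one_mul]; group, hg13, one_mul]
      rw [show g1⁻¹ = g1 * g1 from inv_eq_of_mul_eq_one_right (by rw [← hg13, pow_succ, pow_two, mul_assoc])]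
      rw [show g1 * z * (g1 * g1) * (g1 * g1) = g1 * z * g1 * g1 ^ 3 by
        simp only [pow_succ, pow_zero, one_mul]; group, hg13, mul_one]
    have ha : g1 * z * z * (g1 * z)⁻¹ = x 4 := by
      rw [show g1 * z * z * (g1 * z)⁻¹ = g1 * z * g1⁻¹ by group, hg1z]
    refine base (g := g1 * z) (M0.mul_mem hg1M hzM) ?_ ha (fun h => ?_) ?_ ?_ ?_
    · rw [show (g1 * z) ^ 3 = g1 * z * g1⁻¹ * (g1 * (g1 * z * g1⁻¹) * g1⁻¹) * g1 ^ 3 * z by
        simp only [pow_succ, pow_zero, one_mul]; group, hg1z, hgx4, hg13, mul_one,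
        show x 4 * (x 4 * z) * z = x 4 * x 4 * (z * z) by group, F.x_sq, H.toCore.S.z_sq, one_mul]
    · rw [h, one_mul, inv_one, mul_one] at ha
      exact D1.g_not_comm (mul_inv_eq_iff_eq_mul.1 (hg1z.trans ha.symm))
    · rw [show g1 * z * x 4 * (g1 * z)⁻¹ = g1 * (z * x 4 * z⁻¹) * g1⁻¹ by group, hzx, mul_inv_cancel_right, hgx4]
    · rw [show g1 * z * (x 0 * x 1) * (g1 * z)⁻¹ = g1 * (z * (x 0 * x 1) * z⁻¹) * g1⁻¹ by group, ← hyz.eq,
        mul_inv_cancel_right, ← hY, hgy]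
    · have e2 : g1 * (x 4 * z) * z = g1 * x 4 := by rw [mul_assoc g1, mul_assoc (x 4), H.toCore.S.z_sq, mul_one]
      have e3 : z * g1 = g1 * (x 4 * z) := by
        calc z * g1 = g1 * (x 4 * z) * g1⁻¹ * g1 := by rw [hG4]
          _ = g1 * (x 4 * z) := by group
      calc x 0 * (g1 * z) * (x 0 * (g1 * z)) = x 0 * g1 * (z * x 0) * g1 * z := by simp only [mul_assoc]
        _ = x 0 * g1 * x 0 * (z * g1) * z := by rw [hzx 0]; simp only [mul_assoc]
        _ = u * x 4 := by rw [e3, hu]; simp only [mul_assoc, H.toCore.S.z_sq, mul_one]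
        _ = k ps := by rw [← hmu, mul_assoc, F.x_sq, mul_one]
  · rw [F.Φ_mul, F.Φ_k] at hmu
    exact absurd (hstep _ hmu.symm mX4 (by rw [F.Φ_Z, F.Φ_X4, hg1z])) (by decide +kernel)
  · rw [F.Φ_mul, F.Φ_k] at hmu
    exact absurd (hstep _ hmu.symm mZ (by rw [F.Φ_mul, F.Φ_X4, F.Φ_Z, hG4])) (by decide +kernel)

end CfsgLib.J2Uniq
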