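import Cfsg.Agent.Lib.J2Uniq.Main
import Cfsg.Agent.Lib.J2Uniq.Instance

/-!
Uniqueness of the Hall–Janko group.
-/

set_option autoImplicit false

namespace CfsgLib.J2Uniq

open CfsgLib.J2Type CfsgLib.CosetEnum

theorem exists_from_zero : ∀ i : Fin 5, ∃ p : alternatingGroup (Fin 5), p.1 0 = i := by decide +kernel

theorem alt5_words : ∀ p : alternatingGroup (Fin 5),
    ∃ a ∈ [1, pt, pr, pr * pr, pt * pr, pt * (pr * pr), pr * pt, pr * pr * pt, pt * pr * pt,
      pt * (pr * pr) * pt, pr * pt * (pr * pr), pr * pr * (pt * pr)],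
    ∃ b ∈ [1, ph * pr, ph * pr * (ph * pr), ph * pr * (ph * pr) * (ph * pr),
      ph * pr * (ph * pr) * (ph * pr) * (ph * pr)], p = a * b := by decide +kernel

/-- Eleven conjugates of `z` in the model. -/
def conjList : List MC :=
  mZ :: ([0, 1, 2, 3, 4] : List (Fin 5)).flatMap fun i => [(qgen i, 1), (qflip (qgen i), 1)]

theorem conjList_mem : ∀ m ∈ conjList.tail, ∃ c : MC, mmul c mX4 = mmul m c := by decide +kernel

/-- The free letters. -/
def freeGen (n : ℕ) : FreeGroup (Fin 8) := if h : n < 8 then FreeGroup.of ⟨n, h⟩ else 1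

/-- The relators. -/
def relSet : Set (FreeGroup (Fin 8)) := {y | ∃ r ∈ certM.rels, prodW freeGen r = y}

/-- The presented group. -/
abbrev P2 : Type := PresentedGroup relSet

/-- Its letters. -/
def pgen (n : ℕ) : P2 := PresentedGroup.mk relSet (freeGen n)

theorem pgen_rel {r : List ℕ} (hr : r ∈ certM.rels) : prodW pgen r = 1 := by
  show prodW (fun n => PresentedGroup.mk relSet (freeGen n)) r = 1
  rw [← map_prodW]
  exact (QuotientGroup.eq_one_iff _).2 (Subgroup.subset_normalClosure ⟨r, hr, rfl⟩)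

theorem pgen_ge {n : ℕ} (h : 8 ≤ n) : pgen n = 1 := by
  rw [pgen, freeGen, dif_neg (by omega), map_one]

theorem pgen_inv (n : ℕ) : pgen n * pgen (invs8.getD n n) = 1 := by
  have key : ∀ {a b : ℕ}, [a, b] ∈ certM.rels → pgen a * pgen b = 1 := fun h => by simpa using pgen_rel h
  by_cases h : n < 8
  · interval_cases n
    · exact key (by decide +kernel)
    · exact key (by decide +kernel)
    · exact mul_eq_one_comm.1 (key (a := 1) (b := 2) (by decide +kernel))
    · exact key (by decide +kernel)
    · exact mul_eq_one_comm.1 (key (a := 3) (b := 4) (by decide +kernel))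
    · exact key (by decide +kernel)
    · exact key (by decide +kernel)
    · exact mul_eq_one_comm.1 (key (a := 6) (b := 7) (by decide +kernel))
  · obtain ⟨m, rfl⟩ : ∃ m, n = m + 8 := ⟨n - 8, by omega⟩
    rw [List.getD_eq_default _ _ (by simp [invs8]), pgen_ge (by omega), mul_one]

/-- The letters of `C`. -/
def pgenC (n : ℕ) : P2 := if n < 6 then pgen n else 1

theorem modelC : Model certC (⊥ : Subgroup P2) pgenC where
  gen_K := if_neg (by decide +kernel)
  inv_mul n := by
    by_cases h : n < 6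
    · have h1 : certC.inv n = invs8.getD n n ∧ certC.inv n < 6 := by
        interval_cases n <;> decide +kernel
      rw [pgenC, pgenC, if_pos h, if_pos h1.2, h1.1]; exact pgen_inv n
    · obtain ⟨m, rfl⟩ : ∃ m, n = m + 6 := ⟨n - 6, by omega⟩
      rw [show certC.inv (m + 6) = m + 6 by simp [Cert.inv, certC], pgenC, if_neg (by omega), mul_one]
  rel r hr := by
    have h := List.all_eq_true.1 relsC_ok r hr
    rw [Bool.and_eq_true] at h
    rw [show prodW pgenC r = prodW pgen r from prodW_congr fun a ha => by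
      rw [pgenC, if_pos (Nat.blt_eq.mp (List.all_eq_true.1 h.1 a ha) : a < 6)]]
    refine pgen_rel ?_
    rw [show certM.rels = R0 ++ [jWord 12 ++ [0] ++ jWord 12 ++ [0]] by decide +kernel]
    exact List.mem_append_left _ (List.mem_append_left _ hr)
  sub w hw := by rw [show certC.subs = [] from rfl] at hw; simp at hw

/-- The subgroup of the letters of `C`. -/
def subC : Subgroup P2 := Subgroup.closure {y | ∃ g < certC.K, pgenC g = y}

theorem modelM : Model certM subC pgen where
  gen_K := pgen_ge (by decide +kernel)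
  inv_mul n := by
    rw [show certM.inv n = invs8.getD n n by simp [Cert.inv, show certM.invs = invs8 from rfl]]
    exact pgen_inv n
  rel r hr := pgen_rel hr
  sub w hw := by
    rw [show certM.subs = [[0], [1], [2], [3], [4], [5]] from rfl] at hw
    simp only [List.mem_cons, List.not_mem_nil, or_false] at hw
    rcases hw with rfl | rfl | rfl | rfl | rfl | rfl <;>
      (rw [prodW_cons, prodW_nil, mul_one]; exact Subgroup.subset_closure ⟨_, by decide +kernel, if_pos (by decide +kernel)⟩)

theorem finite_P2 : Finite P2 ∧ Nat.card P2 ≤ 604800 := by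
  obtain ⟨hf, hc⟩ := finite_card_le certC_complete modelC 1 (by simp)
  haveI : Finite subC := hf
  have h := finite_card_le certM_complete modelM (1920 * 1) (hc.trans (le_of_eq (by rw [show certC.N = 1920 from rfl])))
  have htop : Subgroup.closure {y | ∃ g < certM.K, pgen g = y} = ⊤ := by
    rw [eq_top_iff, ← PresentedGroup.closure_range_of relSet, Subgroup.closure_le]
    rintro y ⟨i, rfl⟩
    refine Subgroup.subset_closure ⟨i, i.2, ?_⟩
    rw [pgen, freeGen, dif_pos i.2]; rfl
  rw [htop] at h
  haveI := h.1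
  exact ⟨Finite.of_equiv _ Subgroup.topEquiv.toEquiv,
    by rw [← Nat.card_congr Subgroup.topEquiv.toEquiv]; exact h.2.trans (le_of_eq (by rw [show certM.N = 315 from rfl]))⟩

variable {G : Type*} [Group G] [Finite G]

namespace Gens

variable {z : G} {Q K C V M0 : Subgroup G} {k : alternatingGroup (Fin 5) →* G} {x : Fin 5 → G} {g : G}
  (T : Gens z Q K C V M0 k x g)
include T

/-- In a simple group the letters generate. -/
theorem gen_top [IsSimpleGroup G] (S : Subgroup G) (hS : ∀ n < 8, gen z k x g n ∈ S) : S = ⊤ := by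
  classical
  obtain ⟨hr, hro, hrz⟩ := T.r_facts
  have F := T.F
  have hword : ∀ w : List ℕ, (∀ a ∈ w, a < 8) → prodW (gen z k x g) w ∈ S := by
    intro w hw
    refine Subgroup.list_prod_mem _ fun y hy => ?_
    obtain ⟨a, ha, rfl⟩ := List.mem_map.1 hy
    exact hS a (hw a ha)
  have hr1 : gen z k x g 1 = k pr := F.Φ_k pr
  -- the subgroup contains `C`
  have hC : C ≤ S := by
    let D : Subgroup G := Subgroup.closure {y | ∃ n < 6, gen z k x g n = y}
    have hDS : D ≤ S := by
      rw [Subgroup.closure_le]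
      rintro y ⟨n, hn, rfl⟩
      exact hS n (by omega)
    refine le_trans (fun y hy => ?_) hDS
    obtain ⟨m, rfl⟩ := F.exists_Φ hy
    have hgen : ∀ n < 6, Frame.Φ z k x (lett n) ∈ D := fun n hn =>
      Subgroup.subset_closure ⟨n, hn, T.gen_lt hn⟩
    have hkD : ∀ p, k p ∈ D := by
      intro p
      obtain ⟨e, he, f', hf', rfl⟩ := alt5_words p
      rw [map_mul]
      have h0 : k pt ∈ D := F.Φ_k pt ▸ hgen 0 (by norm_num)
      have h1 : k pr ∈ D := F.Φ_k pr ▸ hgen 1 (by norm_num)
      have h3 : k ph ∈ D := F.Φ_k ph ▸ hgen 3 (by norm_num)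
      refine D.mul_mem ?_ ?_
      · simp only [List.mem_cons, List.not_mem_nil, or_false] at he
        rcases he with rfl | rfl | rfl | rfl | rfl | rfl | rfl | rfl | rfl | rfl | rfl | rfl <;>
          (try simp only [map_mul, map_one]) <;>
          first | exact D.one_mem | repeat' (first | assumption | apply D.mul_mem)
      · simp only [List.mem_cons, List.not_mem_nil, or_false] at hf'
        rcases hf' with rfl | rfl | rfl | rfl | rfl <;> (try simp only [map_mul, map_one]) <;>
          first | exact D.one_mem | repeat' (first | assumption | apply D.mul_mem)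
    obtain ⟨v, p⟩ := m
    have hk : k p ∈ D := hkD p
    have hx0 : x 0 ∈ D := F.Φ_X0 ▸ hgen 5 (by norm_num)
    have hxi : ∀ i, x i ∈ D := by
      intro i
      obtain ⟨p', hp'⟩ := exists_from_zero i
      rw [← hp', ← F.x_conj]
      have hk' : k p' ∈ D := hkD p'
      exact D.mul_mem (D.mul_mem hk' hx0) (D.inv_mem hk')
    have hz : z ∈ D := by
      have := D.mul_mem (D.mul_mem (D.mul_mem (hxi 3) (hxi 4)) (hxi 3)) (hxi 4)
      rwa [F.ident (u := x 3 * x 4 * x 3 * x 4)
        (a := mmul (mmul (mmul ((qgen 3, 1) : MC) ((qgen 4, 1) : MC)) ((qgen 3, 1) : MC)) ((qgen 4, 1) : MC))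
        (b := mZ) (by decide +kernel) (by simp only [F.Φ_mul, F.Φ_gen]) F.Φ_Z] at this
    refine D.mul_mem ?_ hk
    obtain ⟨e, a0, a1, a2, a3⟩ := v
    refine D.mul_mem (D.mul_mem (D.mul_mem (D.mul_mem ?_ ?_) ?_) ?_) ?_ <;>
      split <;> first | exact D.one_mem | exact hxi _ | exact hz
  -- and `C(r)`
  have hL : Subgroup.centralizer ({k pr} : Set G) ≤ S := by
    rw [← T.closure_L, Subgroup.closure_le]
    rintro y (rfl | ⟨n, hn, rfl⟩)
    · exact hr1 ▸ hS 1 (by norm_num)
    · refine hword _ ?_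
      interval_cases n <;> decide +kernel
  -- at least eleven conjugates of `z`
  have hgS : g ∈ S := hS 6 (by norm_num)
  have hconj : ∀ m : MC, m ∈ conjList → ∃ a ∈ S, a * z * a⁻¹ = Frame.Φ z k x m := by
    intro m hm
    rcases List.mem_cons.1 hm with rfl | hm
    · exact ⟨1, S.one_mem, by rw [one_mul, inv_one, mul_one, F.Φ_Z]⟩
    obtain ⟨c, hc⟩ := conjList_mem m hm
    refine ⟨Frame.Φ z k x c * g, S.mul_mem (hC (F.Φ_mem c)) hgS, ?_⟩
    rw [show Frame.Φ z k x c * g * z * (Frame.Φ z k x c * g)⁻¹ =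
      Frame.Φ z k x c * (g * z * g⁻¹) * (Frame.Φ z k x c)⁻¹ by group, T.g_z, mul_inv_eq_iff_eq_mul,
      ← F.Φ_X4, ← F.Φ_mul, ← F.Φ_mul, hc]
  -- the index
  have hG := T.cent.order
  have h1 : 1920 ∣ Nat.card S := F.core.card_C ▸ Subgroup.card_dvd_of_le hC
  have h2 : 1080 ∣ Nat.card S := T.cent.card_cent_r hr hro hrz ▸ Subgroup.card_dvd_of_le hL
  have h3 : 17280 ∣ Nat.card S := by
    have := Nat.lcm_dvd h1 h2
    rwa [show Nat.lcm 1920 1080 = 17280 by decide +kernel] at this
  obtain ⟨j, hj⟩ := h3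
  have hidx := S.card_mul_index
  rw [hG, hj] at hidx
  have h35 : j * S.index = 35 := by
    rw [mul_assoc] at hidx
    omega
  have hd : S.index ∣ 35 := ⟨j, by rw [← h35, mul_comm]⟩
  -- the orbit
  have hbig : 11 * 1920 ≤ Nat.card S := by
    let f : {m : MC // m ∈ conjList.toFinset} → S := fun m => ⟨(hconj m (List.mem_toFinset.1 m.2)).choose,
      (hconj m (List.mem_toFinset.1 m.2)).choose_spec.1⟩
    have hf : ∀ m, (f m : G) * z * (f m : G)⁻¹ = Frame.Φ z k x m :=
      fun m => (hconj m (List.mem_toFinset.1 m.2)).choose_spec.2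
    let φ : {m : MC // m ∈ conjList.toFinset} × C → S := fun p => ⟨(f p.1 : G) * p.2, S.mul_mem (f p.1).2 (hC p.2.2)⟩
    have hφ : Function.Injective φ := by
      rintro ⟨a, c⟩ ⟨b, d⟩ h
      have h' : (f a : G) * c = f b * d := congrArg Subtype.val h
      have hab : a = b := by
        refine Subtype.ext (F.Φ_injective ?_)
        have key : ∀ (m : {m : MC // m ∈ conjList.toFinset}) (c : C),
            (f m : G) * c * z * ((f m : G) * c)⁻¹ = Frame.Φ z k x m := fun m c => by
          rw [show (f m : G) * c * z * ((f m : G) * c)⁻¹ = (f m : G) * ((c : G) * z * (c : G)⁻¹) * (f m : G)⁻¹ by group,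
            F.core.S.z_cen _ c.2, mul_inv_cancel_right, hf]
        rw [← key a c, ← key b d, h']
      subst hab
      exact Prod.ext rfl (Subtype.ext (mul_left_cancel h'))
    have := Nat.card_le_card_of_injective φ hφ
    rwa [Nat.card_prod, F.core.card_C, Nat.card_eq_fintype_card, Fintype.card_coe,
      show conjList.toFinset.card = 11 by decide +kernel] at this
  rw [hj] at hbig
  have hidx1 : S.index = 1 ∨ S.index = 5 ∨ S.index = 7 := by
    have hm : S.index ∈ Nat.divisors 35 := Nat.mem_divisors.2 ⟨hd, by norm_num⟩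
    rw [show Nat.divisors 35 = {1, 5, 7, 35} by decide +kernel] at hm
    simp only [Finset.mem_insert, Finset.mem_singleton] at hm
    rcases hm with h | h | h | h
    · exact Or.inl h
    · exact Or.inr (Or.inl h)
    · exact Or.inr (Or.inr h)
    · rw [h] at h35; omega
  by_contra hne
  haveI : S.FiniteIndex := inferInstance
  have hker : (MulAction.toPermHom G (G ⧸ S)).ker = ⊥ := by
    refine (IsSimpleGroup.eq_bot_or_eq_top_of_normal _ inferInstance).resolve_right fun h => hne ?_
    rw [← Subgroup.normalCore_eq_ker] at h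
    exact top_le_iff.1 (h ▸ S.normalCore_le)
  have hdvd := Subgroup.card_dvd_of_injective _ ((MonoidHom.ker_eq_bot_iff _).1 hker)
  rw [Nat.card_perm, ← Subgroup.index_eq_card, hG] at hdvd
  rcases hidx1 with h | h | h <;> rw [h] at hdvd <;> revert hdvd <;> decide +kernel

end Gens

/-- The comparison map. -/
theorem exists_hom {z : G} {Q K C : Subgroup G} (H : Hyp z Q K C) :
    ∃ f : P2 →* G, Nat.card G = 604800 ∧ f (pgen 6) ≠ 1 ∧ (IsSimpleGroup G → f.range = ⊤) := by
  obtain ⟨V, M0, k, x, g, T⟩ := exists_gens H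
  let v : Fin 8 → G := fun i => gen z k x g i
  have hv : ∀ n, FreeGroup.lift v (freeGen n) = if n < 8 then gen z k x g n else 1 := fun n => by
    unfold freeGen
    split
    · exact FreeGroup.lift_apply_of
    · exact map_one _
  have hlt : (certM.rels.all fun w => w.all fun g => Nat.blt g 8) = true := by decide +kernel
  have hrels : ∀ r ∈ relSet, FreeGroup.lift v r = 1 := by
    rintro _ ⟨r, hr, rfl⟩
    rw [map_prodW]
    refine Eq.trans (prodW_congr fun a ha => ?_) (T.rels_ok r hr)
    rw [hv, if_pos (Nat.blt_eq.mp (List.all_eq_true.1 (List.all_eq_true.1 hlt r hr) a ha) : a < 8)]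
  refine ⟨PresentedGroup.toGroup hrels, T.cent.order, ?_, fun hs => T.gen_top _ fun n hn => ⟨pgen n, ?_⟩⟩
  swap
  · show FreeGroup.lift v (freeGen n) = _
    rw [hv, if_pos hn]
  have e : PresentedGroup.toGroup hrels (pgen 6) = FreeGroup.lift v (freeGen 6) := rfl
  rw [e, hv, if_pos (by norm_num)]
  exact T.cent.g_ne

theorem iso_J : Nonempty (P2 ≃* CfsgLib.J2.J) := by
  haveI := finite_P2.1
  haveI := simple_J
  obtain ⟨Q, K, C, H⟩ := hyp_J
  obtain ⟨f, hG, -, hsurj⟩ := exists_hom H
  have hs : Function.Surjective f := MonoidHom.range_eq_top.1 (hsurj simple_J)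
  have hcard : Nat.card P2 = Nat.card CfsgLib.J2.J :=
    le_antisymm (finite_P2.2.trans hG.ge) (Nat.card_le_card_of_surjective f hs)
  exact ⟨MulEquiv.ofBijective f ((Nat.bijective_iff_surjective_and_card f).2 ⟨hs, hcard⟩)⟩

/-- A group of Hall–Janko type is the Hall–Janko group. -/
theorem iso_of_hyp {z : G} {Q K C : Subgroup G} (H : Hyp z Q K C) : Cfsg.Spor.IsoJ2 G := by
  haveI := finite_P2.1
  obtain ⟨e⟩ := iso_J
  haveI := simple_J
  haveI : Nontrivial P2 := e.toEquiv.nontrivial
  haveI : IsSimpleGroup P2 := MulEquiv.isSimpleGroup e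
  obtain ⟨f, hG, hne, -⟩ := exists_hom H
  have hinj : Function.Injective f := by
    rw [← MonoidHom.ker_eq_bot_iff]
    refine (IsSimpleGroup.eq_bot_or_eq_top_of_normal f.ker inferInstance).resolve_right fun h => hne ?_
    exact MonoidHom.mem_ker.1 (h ▸ Subgroup.mem_top _)
  have hcard : Nat.card P2 = Nat.card G := by
    rw [hG, Nat.card_congr e.toEquiv, CfsgLib.J2.card_J]
  exact ⟨((MulEquiv.ofBijective f ((Nat.bijective_iff_injective_and_card f).2 ⟨hinj, hcard⟩)).symm.trans e).trans
    CfsgLib.J2.equivJ.symm⟩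

end CfsgLib.J2Uniq
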