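import Cfsg.Agent.Lib.J2Uniq.Gens
import Cfsg.Agent.Lib.J2Uniq.CheckA
import Cfsg.Agent.Lib.J2Uniq.CheckJ
import Cfsg.Agent.Lib.J2Uniq.CheckX

/-!
Groups of Hall–Janko type: they satisfy one presentation.
-/

set_option autoImplicit false

namespace CfsgLib.J2Uniq

open CfsgLib.J2Type CfsgLib.J2Order CfsgLib.CosetEnum

/-- The letters `0, …, 5` in the model. -/
def lett : ℕ → MC
  | 0 => mp pt
  | 1 => mp pr
  | 2 => mp (pr * pr)
  | 3 => mp ph
  | 4 => mp (ph * ph)
  | 5 => mX0
  | _ => mone

/-- A word in the model. -/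
def evW (w : List ℕ) : MC := (w.map lett).foldr mmul mone

/-- The relations involving `g`. -/
def relsG : List (List ℕ) :=
  [[6, 7], [6, 6, 6], [6, 0, 7, 0], [6, 1, 7, 2], [6, 0, 5, 0, 5, 0, 5, 0, 5, 7, 4, 2, 5, 1, 3],
    [6, 4, 2, 5, 1, 3, 7, 5, 4, 2, 5, 1, 5, 3], [6, 5, 0, 5, 0, 7, 1, 5, 0, 2, 5], [5, 6, 5, 6, 0, 1]]

/-- The inverse letters. -/
def invs8 : List ℕ := [0, 2, 1, 4, 3, 5, 7, 6]

/-- Formal inverse of a word. -/
def invWord (w : List ℕ) : List ℕ := (w.map fun g => invs8.getD g g).reverse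

/-- The word of `z`. -/
def wz : List ℕ := [0, 5, 0, 5, 0, 5, 0, 5]

/-- The letters `a b g G h H` of the centraliser of `r`. -/
def sub1 : ℕ → List ℕ
  | 0 => [0, 2, 5, 1, 0]
  | 1 => [4, 2, 5, 1, 3]
  | 2 => [6]
  | 3 => [7]
  | 4 => [0, 3, 6, 4, 0]
  | 5 => [0, 3, 7, 4, 0]
  | _ => []

/-- Substitution of the letters. -/
def subW (w : List ℕ) : List ℕ := w.flatMap sub1

/-- Representatives of the orbits of `g` on the involutions of the centraliser of `r`. -/
def reps : List (List ℕ) :=
  [[], [5], [4], [3, 5], [3, 4], [2, 5], [2, 4], [5, 3, 5], [5, 3, 4], [5, 2, 5], [5, 2, 4],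
    [4, 3, 5], [4, 3, 4], [4, 2, 5], [4, 2, 4]]

/-- The involution of a representative. -/
def jWord (n : ℕ) : List ℕ := invWord (subW (reps.getD n [])) ++ wz ++ subW (reps.getD n [])

/-- The relations of `C` and of `g`. -/
def R0 : List (List ℕ) := certC.rels ++ relsG

theorem relsC_ok : (certC.rels.all fun w => (w.all fun g => Nat.blt g 6) && (evW w == mone)) = true := by
  decide +kernel

theorem reps_cover : ∀ i < 45, ∃ n < 15, ∃ e < 3,
    certL.run 0 (reps.getD n [] ++ List.replicate e 2) = i := by decide +kernel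

theorem reps_lt : (reps.all fun w => w.all fun g => Nat.blt g 6) = true := by decide +kernel

variable {G : Type*} [Group G] [Finite G] {z : G} {Q K C V M0 : Subgroup G}
  {k : alternatingGroup (Fin 5) →* G} {x : Fin 5 → G} {g : G}

/-- The generators of `G`. -/
def gen (z : G) (k : alternatingGroup (Fin 5) →* G) (x : Fin 5 → G) (g : G) : ℕ → G
  | 6 => g
  | 7 => g⁻¹
  | n => Frame.Φ z k x (lett n)

namespace Gens

variable (T : Gens z Q K C V M0 k x g)
include T

local notation "gn" => gen z k x g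

theorem F : Frame z Q K C k x := T.frame

theorem gen_lt {n : ℕ} (h : n < 6) : gn n = Frame.Φ z k x (lett n) := by
  interval_cases n <;> rfl

theorem prodW_ev : ∀ {w : List ℕ}, (w.all fun g => Nat.blt g 6) = true →
    prodW gn w = Frame.Φ z k x (evW w)
  | [], _ => by simp [evW, T.F.Φ_one]
  | a :: w, h => by
    simp only [List.all_cons, Bool.and_eq_true, Nat.blt_eq] at h
    rw [prodW_cons, prodW_ev (by simpa using h.2), T.gen_lt h.1, ← T.F.Φ_mul]
    rfl

theorem ev_eq {w : List ℕ} {m : MC} (hw : (w.all fun g => Nat.blt g 6) = true) (h : evW w = m) :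
    prodW gn w = Frame.Φ z k x m := by rw [T.prodW_ev hw, h]

theorem gen_mul_inv : ∀ n, gn n * gn (invs8.getD n n) = 1 := by
  intro n
  have h2 : ∀ a b, mmul (lett a) (lett b) = mone → Frame.Φ z k x (lett a) * Frame.Φ z k x (lett b) = 1 :=
    fun a b h => by rw [← T.F.Φ_mul, h, T.F.Φ_one]
  by_cases h : n < 8
  · interval_cases n
    · exact h2 0 0 (by decide +kernel)
    · exact h2 1 2 (by decide +kernel)
    · exact h2 2 1 (by decide +kernel)
    · exact h2 3 4 (by decide +kernel)
    · exact h2 4 3 (by decide +kernel)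
    · exact h2 5 5 (by decide +kernel)
    · exact mul_inv_cancel g
    · exact inv_mul_cancel g
  · obtain ⟨m, rfl⟩ : ∃ m, n = m + 8 := ⟨n - 8, by omega⟩
    rw [List.getD_eq_default _ _ (by simp [invs8])]
    show Frame.Φ z k x mone * Frame.Φ z k x mone = 1
    rw [T.F.Φ_one, mul_one]

theorem gen_eight : gn 8 = 1 := T.F.Φ_one

theorem prodW_invWord : ∀ w : List ℕ, prodW gn (invWord w) = (prodW gn w)⁻¹
  | [] => by simp [invWord]
  | a :: w => by
    have ih := prodW_invWord w
    have : invWord (a :: w) = invWord w ++ [invs8.getD a a] := by simp [invWord]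
    rw [this, prodW_append, ih, prodW_cons, prodW_cons, prodW_nil, mul_one, mul_inv_rev,
      inv_eq_of_mul_eq_one_right (T.gen_mul_inv a)]

theorem k_mem_C (p : alternatingGroup (Fin 5)) : k p ∈ C :=
  T.F.core.S.K_le (T.F.k_range ▸ ⟨p, rfl⟩)

theorem g_comm {p : alternatingGroup (Fin 5)} (hp : p.1 4 = 4) : g * k p = k p * g :=
  (T.cent.R_comm (T.stab p hp) T.cent.g_mem).symm

theorem g_conj {p : alternatingGroup (Fin 5)} (hp : p.1 4 = 4) : g * k p * g⁻¹ = k p :=
  mul_inv_eq_iff_eq_mul.2 (T.g_comm hp)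

theorem g_three : g * g * g = 1 := by rw [← T.cent.g_three, pow_succ, pow_two]

theorem relsG_ok : ∀ r ∈ relsG, prodW gn r = 1 := by
  have F := T.F
  have g6 : gn 6 = g := rfl
  have g7 : gn 7 = g⁻¹ := rfl
  have split : ∀ (u v : List ℕ) (a b : MC) (α β γ : G), (u.all fun g => Nat.blt g 6) = true →
      (v.all fun g => Nat.blt g 6) = true → evW u = a → evW v = b → Frame.Φ z k x a = α →
      g * α * g⁻¹ = β → Frame.Φ z k x b = γ → β * γ = 1 → prodW gn (6 :: u ++ 7 :: v) = 1 := by
    intro u v a b α β γ hu hv ea eb hα hβ hγ h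
    rw [prodW_append, prodW_cons, prodW_cons, g6, g7, T.ev_eq hu ea, T.ev_eq hv eb, hα, hγ, ← h, ← hβ]
    group
  intro r hr
  simp only [relsG, List.mem_cons, List.not_mem_nil, or_false] at hr
  rcases hr with rfl | rfl | rfl | rfl | rfl | rfl | rfl | rfl
  · simp [g6, g7]
  · simp [g6, ← mul_assoc, T.g_three]
  · exact split [0] [0] (mp pt) (mp pt) _ _ _ rfl rfl (by decide +kernel) (by decide +kernel)
      (F.Φ_k pt) (T.g_conj (by decide +kernel)) (F.Φ_k pt)
      (by rw [← map_mul, show pt * pt = 1 by decide +kernel, map_one])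
  · exact split [1] [2] (mp pr) (mp (pr * pr)) _ _ _ rfl rfl (by decide +kernel) (by decide +kernel)
      (F.Φ_k pr) (T.g_conj (by decide +kernel)) (F.Φ_k _)
      (by rw [← map_mul, show pr * (pr * pr) = 1 by decide +kernel, map_one])
  · exact split [0, 5, 0, 5, 0, 5, 0, 5] [4, 2, 5, 1, 3] mZ mX4 _ _ _ rfl rfl (by decide +kernel)
      (by decide +kernel) F.Φ_Z T.g_z F.Φ_X4 (F.x_sq 4)
  · refine split [4, 2, 5, 1, 3] [5, 4, 2, 5, 1, 5, 3] mX4 (mmul mX4 mZ) _ _ _ rfl rfl (by decide +kernel)
      (by decide +kernel) F.Φ_X4 T.g_x4 (by rw [F.Φ_mul, F.Φ_X4, F.Φ_Z]) ?_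
    rw [← (F.comm_z 4).eq, mul_assoc z, ← mul_assoc (x 4), ← (F.comm_z 4).eq, mul_assoc z (x 4) (x 4),
      F.x_sq, mul_one, F.core.S.z_sq]
  · exact split [5, 0, 5, 0] [1, 5, 0, 2, 5] mY (evW [1, 5, 0, 2, 5]) _ _ _ rfl rfl (by decide +kernel) rfl
      F.Φ_Y T.g_y rfl (by
        rw [← F.Φ_GY, ← F.Φ_mul]
        exact F.ident (by decide +kernel) rfl F.Φ_one)
  · show prodW gn ([5, 6, 5, 6] ++ [0, 1]) = 1
    rw [prodW_append, T.ev_eq (w := [0, 1]) (m := mp (pt * pr)) rfl (by decide +kernel), F.Φ_k]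
    have e5 : gn 5 = x 0 := F.Φ_X0
    simp only [prodW_cons, prodW_nil, mul_one, g6, e5]
    rw [show x 0 * (g * (x 0 * g)) = k ps by rw [← T.g_sq, mul_assoc], ← map_mul,
      show ps * (pt * pr) = 1 by decide +kernel, map_one]

theorem R0_ok : ∀ r ∈ R0, prodW gn r = 1 := by
  intro r hr
  rcases List.mem_append.1 hr with hr | hr
  · have h := List.all_eq_true.1 relsC_ok r hr
    rw [Bool.and_eq_true, beq_iff_eq] at h
    rw [T.ev_eq h.1 h.2, T.F.Φ_one]
  · exact T.relsG_ok r hr

/-- A certificate over `C`. -/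
theorem model8 {D : Cert} {ex : List (List ℕ)} (hK : D.K = 8) (hi : D.invs = invs8)
    (hs : D.subs = [[0], [1], [2], [3], [4], [5]]) (hr : D.rels = R0 ++ ex)
    (hex : ∀ r ∈ ex, prodW gn r = 1) : Model D C gn where
  gen_K := by rw [hK]; exact T.gen_eight
  inv_mul n := by
    have : D.inv n = invs8.getD n n := by simp [Cert.inv, hi]
    rw [this]; exact T.gen_mul_inv n
  rel r hm := by
    rw [hr, List.mem_append] at hm
    rcases hm with hm | hm
    exacts [T.R0_ok r hm, hex r hm]
  sub w hw := by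
    rw [hs] at hw
    simp only [List.mem_cons, List.not_mem_nil, or_false] at hw
    rcases hw with rfl | rfl | rfl | rfl | rfl | rfl <;>
      (rw [T.prodW_ev rfl]; exact T.F.Φ_mem _)

theorem collapse {D : Cert} (c : D.Complete) {ex : List (List ℕ)} (hK : D.K = 8) (hi : D.invs = invs8)
    (hs : D.subs = [[0], [1], [2], [3], [4], [5]]) (hr : D.rels = R0 ++ ex) (hrun : D.run 0 [6] = 0)
    (hex : ∀ r ∈ ex, prodW gn r = 1) : False := by
  have h := mem_of_run_eq_zero c (T.model8 hK hi hs hr hex) (by simp [hK]) hrun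
  rw [prodW_cons, prodW_nil, mul_one] at h
  exact T.cent.g_not_comm ((T.cent.pair.hyp.mem_C g).1 h)

/-- The element `r`. -/
theorem r_facts : k pr ∈ T.cent.R ∧ orderOf (k pr) = 3 ∧ k pr * z = z * k pr := by
  haveI : Fact (Nat.Prime 3) := ⟨Nat.prime_three⟩
  refine ⟨T.stab pr (by decide +kernel), orderOf_eq_prime ?_ ?_, T.F.z_k pr⟩
  · rw [← map_pow, show pr ^ 3 = 1 by decide +kernel, map_one]
  · exact fun h => (show pr ≠ 1 by decide +kernel) (T.F.k_inj (h.trans k.map_one.symm))

theorem genL_comm : ∀ n, prodW gn (sub1 n) * k pr = k pr * prodW gn (sub1 n) := by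
  have hg : g * k pr = k pr * g := T.g_comm (by decide +kernel)
  have hc : ∀ (u : List ℕ) (hu : (u.all fun g => Nat.blt g 6) = true),
      evW u = mmul (evW u) mone → mmul (evW u) (mp pr) = mmul (mp pr) (evW u) →
      prodW gn u * k pr = k pr * prodW gn u := by
    intro u hu _ h
    rw [T.prodW_ev hu, ← T.F.Φ_k, ← T.F.Φ_mul, ← T.F.Φ_mul, h]
  intro n
  match n with
  | 0 => exact hc _ rfl (by decide +kernel) (by decide +kernel)
  | 1 => exact hc _ rfl (by decide +kernel) (by decide +kernel)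
  | 2 => simpa [sub1, gen] using hg
  | 3 =>
    show prodW gn [7] * k pr = k pr * prodW gn [7]
    rw [prodW_cons, prodW_nil, mul_one]
    exact (Commute.inv_left (show Commute g (k pr) from hg)).eq
  | 4 | 5 =>
    all_goals
      have hcr : prodW gn [0, 3] * (k pr)⁻¹ = k pr * prodW gn [0, 3] := by
        rw [T.prodW_ev rfl, ← map_inv, ← T.F.Φ_k, ← T.F.Φ_k, ← T.F.Φ_mul, ← T.F.Φ_mul,
          show mmul (evW [0, 3]) (mp pr⁻¹) = mmul (mp pr) (evW [0, 3]) by decide +kernel]
      have hci : prodW gn [4, 0] = (prodW gn [0, 3])⁻¹ := T.prodW_invWord [0, 3]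
      simp only [sub1]
      rw [show ∀ a : ℕ, prodW gn [0, 3, a, 4, 0] = prodW gn [0, 3] * gn a * prodW gn [4, 0] from
        fun a => by simp [mul_assoc], hci]
      set c := prodW gn [0, 3]
      have h1 : c⁻¹ * k pr * c = (k pr)⁻¹ := by rw [mul_assoc, ← hcr, inv_mul_cancel_left]
      have h2 : ∀ y : G, Commute y (k pr)⁻¹ → c * y * c⁻¹ * k pr = k pr * (c * y * c⁻¹) := by
        intro y hy
        calc c * y * c⁻¹ * k pr = c * (y * (c⁻¹ * k pr * c)) * c⁻¹ := by group
          _ = c * ((k pr)⁻¹ * y) * c⁻¹ := by rw [h1, hy.eq]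
          _ = k pr * (c * y * c⁻¹) := by rw [← mul_assoc c, hcr]; group
      first
        | exact h2 _ (show Commute g (k pr)⁻¹ from (show Commute g (k pr) from hg).inv_right)
        | exact h2 _ (show Commute g⁻¹ (k pr)⁻¹ from ((show Commute g (k pr) from hg).inv_right).inv_left)
  | n + 6 => simp [sub1]

theorem zpow_cases {w : G} (hw : w ∈ Subgroup.zpowers (k pr)) :
    ∃ tl ∈ [[], [1], [2]], w * prodW gn tl = 1 := by
  obtain ⟨-, ho, -⟩ := T.r_facts
  have h3 : k pr ^ 3 = 1 := ho ▸ pow_orderOf_eq_one _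
  have g1 : gn 1 = k pr := T.F.Φ_k pr
  have g2 : gn 2 = k pr ^ 2 := by
    rw [← map_pow, show pr ^ 2 = pr * pr by decide +kernel]; exact T.F.Φ_k _
  rcases mem_zpowers_three h3 hw with e | e | e <;> subst e
  · exact ⟨[], by simp, by simp⟩
  · exact ⟨[2], by simp, by simp [g2, ← pow_succ', h3]⟩
  · exact ⟨[1], by simp, by simp [g1, ← pow_succ, h3]⟩

omit T in
theorem prodW_rep (f : ℕ → G) (w : List ℕ) : ∀ n, prodW f (List.replicate n w).flatten = prodW f w ^ n
  | 0 => by simp
  | n + 1 => by rw [List.replicate_succ, List.flatten_cons, prodW_append, prodW_rep f w n, pow_succ']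

theorem no_power (w : List ℕ) (n : ℕ)
    (h : ∀ tl ∈ [[], [1], [2]], ∀ _ : prodW gn ((List.replicate n w).flatten ++ tl) = 1, False) :
    prodW gn w ^ n ∉ Subgroup.zpowers (k pr) := by
  intro hm
  obtain ⟨tl, htl, e⟩ := T.zpow_cases hm
  exact h tl htl (by rw [prodW_append, prodW_rep, e])

theorem x_four : prodW gn (subW [2, 5]) ^ 4 ∈ Subgroup.zpowers (k pr) := by
  obtain ⟨hr, hro, hrz⟩ := T.r_facts
  have hxr : prodW gn (subW [2, 5]) * k pr = k pr * prodW gn (subW [2, 5]) := by
    rw [show subW [2, 5] = sub1 2 ++ sub1 5 from rfl, prodW_append]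
    exact (Commute.mul_left (show Commute _ (k pr) from T.genL_comm 2) (T.genL_comm 5)).eq
  have h3 : prodW gn (subW [2, 5]) ^ 3 ∉ Subgroup.zpowers (k pr) := by
    refine T.no_power _ _ fun tl htl e => ?_
    simp only [List.mem_cons, List.not_mem_nil, or_false] at htl
    rcases htl with rfl | rfl | rfl
    · exact T.collapse certX3c0_complete rfl rfl rfl (by decide +kernel) (by decide +kernel)
        (List.forall_mem_singleton.2 e)
    · exact T.collapse certX3c1_complete rfl rfl rfl (by decide +kernel) (by decide +kernel)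
        (List.forall_mem_singleton.2 e)
    · exact T.collapse certX3c2_complete rfl rfl rfl (by decide +kernel) (by decide +kernel)
        (List.forall_mem_singleton.2 e)
  have h5 : prodW gn (subW [2, 5]) ^ 5 ∉ Subgroup.zpowers (k pr) := by
    refine T.no_power _ _ fun tl htl e => ?_
    simp only [List.mem_cons, List.not_mem_nil, or_false] at htl
    rcases htl with rfl | rfl | rfl
    · exact T.collapse certX5c0_complete rfl rfl rfl (by decide +kernel) (by decide +kernel)
        (List.forall_mem_singleton.2 e)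
    · exact T.collapse certX5c1_complete rfl rfl rfl (by decide +kernel) (by decide +kernel)
        (List.forall_mem_singleton.2 e)
    · exact T.collapse certX5c2_complete rfl rfl rfl (by decide +kernel) (by decide +kernel)
        (List.forall_mem_singleton.2 e)
  rcases T.cent.order_cases hr hro hrz hxr with h | h | h
  exacts [absurd h h3, h, absurd h h5]

theorem five_dvd : 5 ∣ orderOf (prodW gn (subW [2, 4])) := by
  obtain ⟨hr, hro, hrz⟩ := T.r_facts
  have hxr : prodW gn (subW [2, 4]) * k pr = k pr * prodW gn (subW [2, 4]) := by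
    rw [show subW [2, 4] = sub1 2 ++ sub1 4 from rfl, prodW_append]
    exact (Commute.mul_left (show Commute _ (k pr) from T.genL_comm 2) (T.genL_comm 4)).eq
  have h3 : prodW gn (subW [2, 4]) ^ 3 ∉ Subgroup.zpowers (k pr) := by
    refine T.no_power _ _ fun tl htl e => ?_
    simp only [List.mem_cons, List.not_mem_nil, or_false] at htl
    rcases htl with rfl | rfl | rfl
    · exact T.collapse certY3c0_complete rfl rfl rfl (by decide +kernel) (by decide +kernel)
        (List.forall_mem_singleton.2 e)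
    · exact T.collapse certY3c1_complete rfl rfl rfl (by decide +kernel) (by decide +kernel)
        (List.forall_mem_singleton.2 e)
    · exact T.collapse certY3c2_complete rfl rfl rfl (by decide +kernel) (by decide +kernel)
        (List.forall_mem_singleton.2 e)
  have h4 : prodW gn (subW [2, 4]) ^ 4 ∉ Subgroup.zpowers (k pr) := by
    refine T.no_power _ _ fun tl htl e => ?_
    simp only [List.mem_cons, List.not_mem_nil, or_false] at htl
    rcases htl with rfl | rfl | rfl
    · exact T.collapse certY4c0_complete rfl rfl rfl (by decide +kernel) (by decide +kernel)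
        (List.forall_mem_singleton.2 e)
    · exact T.collapse certY4c1_complete rfl rfl rfl (by decide +kernel) (by decide +kernel)
        (List.forall_mem_singleton.2 e)
    · exact T.collapse certY4c2_complete rfl rfl rfl (by decide +kernel) (by decide +kernel)
        (List.forall_mem_singleton.2 e)
  rcases T.cent.order_cases hr hro hrz hxr with h | h | h
  · exact absurd h h3
  · exact absurd h h4
  set y := prodW gn (subW [2, 4])
  have h15 : y ^ 15 = 1 := by
    obtain ⟨i, hi⟩ := Subgroup.mem_zpowers_iff.1 h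
    rw [show 15 = 5 * 3 from rfl, pow_mul, ← hi, ← zpow_natCast, ← zpow_mul, mul_comm, zpow_mul,
      zpow_natCast, show k pr ^ 3 = 1 from hro ▸ pow_orderOf_eq_one _, one_zpow]
  by_contra h5
  have hd : orderOf y ∣ 3 := by
    have hc : Nat.Coprime (orderOf y) 5 := ((Nat.prime_five.coprime_iff_not_dvd).2 h5).symm
    exact hc.dvd_of_dvd_mul_left (show orderOf y ∣ 5 * 3 from orderOf_dvd_of_pow_eq_one h15)
  exact h3 (by rw [orderOf_dvd_iff_pow_eq_one.1 hd]; exact Subgroup.one_mem _)

/-- The centraliser of `r` is generated by `a, b, g, h, r`. -/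
theorem closure_L : Subgroup.closure ({k pr} ∪ {y | ∃ n < 6, prodW gn (sub1 n) = y}) =
    Subgroup.centralizer ({k pr} : Set G) := by
  haveI : Fact (Nat.Prime 2) := ⟨Nat.prime_two⟩
  obtain ⟨hr, hro, hrz⟩ := T.r_facts
  set H := Subgroup.closure ({k pr} ∪ {y | ∃ n < 6, prodW gn (sub1 n) = y})
  have hmem : ∀ n < 6, prodW gn (sub1 n) ∈ H := fun n hn => Subgroup.subset_closure (Or.inr ⟨n, hn, rfl⟩)
  have hrH : k pr ∈ H := Subgroup.subset_closure (Or.inl rfl)
  refine T.cent.sub_r_eq hr hro hrz H ?_ hrH ?_ ?_ ?_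
  · rw [Subgroup.closure_le]
    rintro y (rfl | ⟨n, -, rfl⟩)
    · exact Subgroup.mem_centralizer_singleton_iff.2 rfl
    · exact Subgroup.mem_centralizer_singleton_iff.2 (T.genL_comm n)
  · set a := prodW gn (sub1 0) with ha
    set b := prodW gn (sub1 1) with hb
    set D := Subgroup.closure ({a, b} : Set G)
    have ea : a = Frame.Φ z k x (qgen 3, 1) := by rw [ha]; exact T.ev_eq rfl (by decide +kernel)
    have eb : b = Frame.Φ z k x (qgen 4, 1) := by rw [hb]; exact T.ev_eq rfl (by decide +kernel)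
    have hDQ : D ≤ Q := by
      rw [Subgroup.closure_le]
      rintro y (rfl | rfl)
      · rw [ea, T.F.Φ_gen]; exact T.F.x_mem _
      · rw [eb, T.F.Φ_gen]; exact T.F.x_mem _
    have hDH : D ≤ H := by
      rw [Subgroup.closure_le]
      rintro y (rfl | rfl)
      exacts [hmem 0 (by norm_num), hmem 1 (by norm_num)]
    have haD : a ∈ D := Subgroup.subset_closure (Or.inl rfl)
    have habD : a * b ∈ D := D.mul_mem haD (Subgroup.subset_closure (Or.inr rfl))
    have hab2 : (a * b) ^ 2 = z := by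
      rw [ea, eb, pow_two, ← T.F.Φ_mul, ← T.F.Φ_mul]
      exact T.F.ident (by decide +kernel) rfl T.F.Φ_Z
    have hord : orderOf (a * b) = 4 := by
      refine orderOf_eq_prime_pow (p := 2) (n := 1) ?_ ?_
      · rw [pow_one, hab2]; exact T.F.core.S.z_ne
      · rw [show 2 ^ (1 + 1) = 2 * 2 from rfl, pow_mul, hab2, pow_two, T.F.core.S.z_sq]
    have hna : a ∉ Subgroup.zpowers (a * b) := by
      intro hm
      obtain ⟨i, hi⟩ := Subgroup.mem_zpowers_iff.1 hm
      have hc : Commute a (a * b) := by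
        have h := (Commute.refl (a * b)).zpow_left i
        rwa [hi] at h
      have e : mmul ((qgen 3, 1) : MC) ((qgen 4, 1) : MC) = mmul ((qgen 4, 1) : MC) ((qgen 3, 1) : MC) := by
        refine T.F.Φ_injective ?_
        rw [T.F.Φ_mul, T.F.Φ_mul, ← ea, ← eb]
        have h' := hc.eq
        rw [mul_assoc] at h'
        exact mul_left_cancel h'
      exact absurd e (by decide +kernel)
    have hd32 : Nat.card D ∣ 2 ^ 5 := by
      have := Subgroup.card_dvd_of_le hDQ
      rwa [T.F.core.S.cardQ] at this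
    have h4 : 4 < Nat.card D := by
      have hle : Subgroup.zpowers (a * b) ≤ D := Subgroup.zpowers_le.2 habD
      rw [← hord, ← Nat.card_zpowers]
      exact Set.ncard_lt_ncard (lt_of_le_of_ne hle fun e => hna (by rw [SetLike.coe_injective e]; exact haD)) (Set.toFinite _)
    obtain ⟨m, hm, hm'⟩ := (Nat.dvd_prime_pow Nat.prime_two).1 hd32
    refine dvd_trans ?_ (Subgroup.card_dvd_of_le hDH)
    rw [hm'] at h4 ⊢
    have : 3 ≤ m := by
      by_contra hc
      have : 2 ^ m ≤ 2 ^ 2 := Nat.pow_le_pow_right (by norm_num) (by omega)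
      omega
    exact Nat.pow_dvd_pow 2 this
  · haveI : Fact (Nat.Prime 3) := ⟨Nat.prime_three⟩
    set A := Subgroup.zpowers g
    set B := Subgroup.zpowers (k pr)
    have hgH : g ∈ H := by simpa [sub1, gen] using hmem 2 (by norm_num)
    have hinf : A ⊓ B = ⊥ := by
      rw [eq_bot_iff]
      intro y hy
      have : y ∈ T.cent.R ⊓ M0 :=
        ⟨Subgroup.zpowers_le.2 hr hy.2, Subgroup.zpowers_le.2 T.cent.g_mem hy.1⟩
      rwa [T.cent.R_inf] at this
    let f : A × B → H := fun p => ⟨(p.1 : G) * p.2,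
      H.mul_mem (Subgroup.zpowers_le.2 hgH p.1.2) (Subgroup.zpowers_le.2 hrH p.2.2)⟩
    have hc : Commute g (k pr) := T.g_comm (by decide +kernel)
    have hcAB : ∀ (u : A) (v : B), Commute (u : G) (v : G) := fun u v => by
      obtain ⟨i, hi⟩ := Subgroup.mem_zpowers_iff.1 u.2
      obtain ⟨j, hj⟩ := Subgroup.mem_zpowers_iff.1 v.2
      rw [← hi, ← hj]; exact (hc.zpow_left i).zpow_right j
    let φ : A × B →* H :=
    { toFun := f
      map_one' := Subtype.ext (by simp [f])
      map_mul' := fun p q => Subtype.ext (by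
        show (p.1 : G) * q.1 * ((p.2 : G) * q.2) = p.1 * p.2 * (q.1 * q.2)
        rw [(hcAB q.1 p.2).mul_mul_mul_comm]) }
    have hφ : Function.Injective φ := by
      rw [injective_iff_map_eq_one]
      intro p hp
      have h1 : (p.1 : G) * p.2 = 1 := congrArg Subtype.val hp
      have h2 : (p.1 : G) ∈ A ⊓ B := ⟨p.1.2, by rw [eq_inv_of_mul_eq_one_left h1]; exact B.inv_mem p.2.2⟩
      rw [hinf, Subgroup.mem_bot] at h2
      rw [h2, one_mul] at h1
      exact Prod.ext (Subtype.ext h2) (Subtype.ext h1)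
    have := Subgroup.card_dvd_of_injective φ hφ
    rwa [Nat.card_prod, Nat.card_zpowers, Nat.card_zpowers, T.cent.orderOf_g, hro] at this
  · have h : prodW gn (subW [2, 4]) ∈ H := by
      rw [show subW [2, 4] = sub1 2 ++ sub1 4 from rfl, prodW_append]
      exact H.mul_mem (hmem 2 (by norm_num)) (hmem 4 (by norm_num))
    exact T.five_dvd.trans (Subgroup.orderOf_dvd_natCard _ h)

/-- Every involution centralising `r` is a conjugate of `z` by a representative word. -/
theorem invol_word {i : G} (hi : orderOf i = 2) (hir : i * k pr = k pr * i) :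
    ∃ n < 15, ∃ e < 3, i = (prodW gn (subW (reps.getD n [])) * g ^ e)⁻¹ * z *
      (prodW gn (subW (reps.getD n [])) * g ^ e) := by
  obtain ⟨hr, hro, hrz⟩ := T.r_facts
  obtain ⟨u, hur, hui⟩ := T.cent.invol_conj_r hr hro hrz hi hir
  set L := Subgroup.centralizer ({k pr} : Set G) with hL
  set N := (Subgroup.zpowers (k pr)).subgroupOf L with hN
  haveI : N.Normal := ⟨fun n hn a => by
    have hc : Commute (a : G) (n : G) := by
      obtain ⟨j, hj⟩ := Subgroup.mem_zpowers_iff.1 hn
      rw [← (show k pr ^ j = (n : G) from hj)]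
      exact (show Commute (a : G) (k pr) from Subgroup.mem_centralizer_singleton_iff.1 a.2).zpow_right j
    show (a : G) * n * (a : G)⁻¹ ∈ Subgroup.zpowers (k pr)
    rw [hc.eq, mul_inv_cancel_right]; exact hn⟩
  let π := QuotientGroup.mk' N
  have hπ : ∀ y : L, π y = 1 ↔ (y : G) ∈ Subgroup.zpowers (k pr) := fun y => QuotientGroup.eq_one_iff y
  let e : ℕ → L := fun n => ⟨prodW gn (sub1 n), Subgroup.mem_centralizer_singleton_iff.2 (T.genL_comm n)⟩
  let gq : ℕ → L ⧸ N := fun n => π (e n)
  have hval : ∀ w : List ℕ, prodW gq w = π ⟨prodW gn (subW w),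
      Subgroup.mem_centralizer_singleton_iff.2 (by
        induction w with
        | nil => simp [subW]
        | cons a w ih =>
          rw [show subW (a :: w) = sub1 a ++ subW w from rfl, prodW_append]
          exact (Commute.mul_left (show Commute _ (k pr) from T.genL_comm a) ih).eq)⟩ := by
    intro w
    induction w with
    | nil => exact (map_one π).symm.trans (congrArg π (Subtype.ext (by simp [subW])))
    | cons a w ih =>
      rw [prodW_cons, ih, ← map_mul]
      exact congrArg π (Subtype.ext (by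
        show prodW gn (sub1 a) * prodW gn (subW w) = prodW gn (subW (a :: w))
        rw [← prodW_append]; rfl))
  have hrel : ∀ (w v : List ℕ), subW w = v → prodW gn v ∈ Subgroup.zpowers (k pr) → prodW gq w = 1 := by
    intro w v hv h
    rw [hval, hπ]
    show prodW gn (subW w) ∈ _
    rwa [hv]
  have hC6 : ∀ (w : List ℕ), ((subW w).all fun g => Nat.blt g 6) = true →
      ((evW (subW w)).1 == qone && (List.elem (evW (subW w)).2 [1, pr, pr * pr])) = true →
      prodW gq w = 1 := by
    intro w hw h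
    rw [Bool.and_eq_true, beq_iff_eq, List.elem_iff] at h
    refine hrel w _ rfl ?_
    rw [T.prodW_ev hw]
    show Frame.E z x (evW (subW w)).1 * k (evW (subW w)).2 ∈ _
    rw [h.1, T.F.E_one, one_mul]
    have hm := Subgroup.mem_zpowers (k pr)
    simp only [List.mem_cons, List.not_mem_nil, or_false] at h
    rcases h.2 with e | e | e <;> rw [e]
    · rw [map_one]; exact Subgroup.one_mem _
    · exact hm
    · rw [map_mul]; exact Subgroup.mul_mem _ hm hm
  have g6 : gn 6 = g := rfl
  have g7 : gn 7 = g⁻¹ := rfl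
  set cG := prodW gn [0, 3] with hcG
  have hci : prodW gn [4, 0] = cG⁻¹ := T.prodW_invWord [0, 3]
  have conjc : ∀ u : List ℕ, prodW gn ([0, 3] ++ u ++ [4, 0]) = cG * prodW gn u * cG⁻¹ := fun u => by
    rw [prodW_append, prodW_append, hci]
  have F := T.F
  have e4 : prodW gn (sub1 4) = cG * g * cG⁻¹ := (conjc [6]).trans (by simp [g6])
  have e5 : prodW gn (sub1 5) = cG * g⁻¹ * cG⁻¹ := (conjc [7]).trans (by simp [g7])
  have e0 : prodW gn (sub1 0) = x 3 := by
    rw [T.ev_eq (w := sub1 0) (m := (qgen 3, 1)) rfl (by decide +kernel), F.Φ_gen]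
  have e1 : prodW gn (sub1 1) = x 4 := by
    rw [T.ev_eq (w := sub1 1) (m := (qgen 4, 1)) rfl (by decide +kernel), F.Φ_gen]
  have e2 : prodW gn (sub1 2) = g := by simp [sub1, g6]
  have e3 : prodW gn (sub1 3) = g⁻¹ := by simp [sub1, g7]
  have hc3 : cG * x 3 * cG⁻¹ = x 4 := by
    rw [mul_inv_eq_iff_eq_mul, hcG, T.prodW_ev rfl]
    exact F.ident (a := mmul (evW [0, 3]) (qgen 3, 1)) (b := mmul (qgen 4, 1) (evW [0, 3])) (by decide +kernel)
      (by rw [F.Φ_mul, F.Φ_gen]) (by rw [F.Φ_mul, F.Φ_gen])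
  have hc4 : cG * x 4 * cG⁻¹ = x 3 := by
    rw [mul_inv_eq_iff_eq_mul, hcG, T.prodW_ev rfl]
    exact F.ident (a := mmul (evW [0, 3]) (qgen 4, 1)) (b := mmul (qgen 3, 1) (evW [0, 3])) (by decide +kernel)
      (by rw [F.Φ_mul, F.Φ_gen]) (by rw [F.Φ_mul, F.Φ_gen])
  have hcz : cG * z * cG⁻¹ = z := mul_inv_eq_iff_eq_mul.2 (by
    rw [hcG, T.prodW_ev rfl]; exact F.core.S.z_cen _ (F.Φ_mem _))
  have hzab : x 3 * (x 4 * (x 3 * x 4)) = z :=
    F.ident (a := mmul (qgen 3, 1) (mmul (qgen 4, 1) (mmul (qgen 3, 1) (qgen 4, 1)))) (b := mZ)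
      (by decide +kernel) (by simp only [F.Φ_mul, F.Φ_gen]) F.Φ_Z
  have hzz := F.core.S.z_sq
  have hagag : x 3 * g * (x 3 * g) = k (pr * pr) := by
    have hp : k pt'' * x 0 * (k pt'')⁻¹ = x 3 := by
      rw [F.x_conj, show pt''.1 0 = 3 by decide +kernel]
    have hg' : k pt'' * g * (k pt'')⁻¹ = g := by
      rw [← T.g_comm (by decide +kernel), mul_inv_cancel_right]
    calc x 3 * g * (x 3 * g) = k pt'' * (x 0 * g * (x 0 * g)) * (k pt'')⁻¹ := by
          conv_lhs => rw [← hp, ← hg']
          group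
      _ = k (pr * pr) := by
          rw [T.g_sq, ← map_inv, ← map_mul, ← map_mul, show pt'' * ps * pt''⁻¹ = pr * pr by decide +kernel]
  have hp2 : k (pr * pr) ∈ Subgroup.zpowers (k pr) := by
    rw [map_mul]; exact Subgroup.mul_mem _ (Subgroup.mem_zpowers _) (Subgroup.mem_zpowers _)
  have hgq : ∀ n, gq (certL.inv n) * gq n = 1 → gq n * gq (certL.inv n) = 1 := fun n h =>
    mul_eq_one_comm.1 h
  have m : Model certL ((C.subgroupOf L).map π) gq :=
  { gen_K := by
      show π (e 6) = 1
      rw [show e 6 = 1 from Subtype.ext (by simp [e, sub1]), map_one]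
    inv_mul := by
      intro n
      show π (e n) * π (e (certL.inv n)) = 1
      rw [← map_mul, hπ]
      show prodW gn (sub1 n) * prodW gn (sub1 (certL.inv n)) ∈ _
      by_cases h : n < 6
      · interval_cases n
        · rw [show certL.inv 0 = 0 from rfl, e0, F.x_sq]; exact Subgroup.one_mem _
        · rw [show certL.inv 1 = 1 from rfl, e1, F.x_sq]; exact Subgroup.one_mem _
        · rw [show certL.inv 2 = 3 from rfl, e2, e3, mul_inv_cancel]; exact Subgroup.one_mem _
        · rw [show certL.inv 3 = 2 from rfl, e2, e3, inv_mul_cancel]; exact Subgroup.one_mem _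
        · rw [show certL.inv 4 = 5 from rfl, e4, e5, show cG * g * cG⁻¹ * (cG * g⁻¹ * cG⁻¹) = 1 by group]
          exact Subgroup.one_mem _
        · rw [show certL.inv 5 = 4 from rfl, e4, e5, show cG * g⁻¹ * cG⁻¹ * (cG * g * cG⁻¹) = 1 by group]
          exact Subgroup.one_mem _
      · obtain ⟨d, rfl⟩ : ∃ d, n = d + 6 := ⟨n - 6, by omega⟩
        rw [show certL.inv (d + 6) = d + 6 by simp [Cert.inv, certL]]
        simp [sub1]
    rel := by
      intro w hw
      rw [show certL.rels = [[0, 0], [1, 1], [0, 1, 0, 1, 0, 1, 0, 1], [2, 2, 2], [4, 4, 4], [2, 3], [4, 5],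
        [0, 2, 0, 2], [1, 4, 1, 4], [2, 0, 1, 0, 1, 3, 1], [2, 1, 3, 1, 0, 1, 0, 1], [4, 0, 1, 0, 1, 5, 0],
        [4, 0, 5, 0, 0, 1, 0, 1], [2, 5, 2, 5, 2, 5, 2, 5]] from rfl] at hw
      simp only [List.mem_cons, List.not_mem_nil, or_false] at hw
      have one : ∀ w : List ℕ, (w.map fun n => prodW gn (sub1 n)).prod ∈ Subgroup.zpowers (k pr) →
          prodW gq w = 1 := fun w h => hrel w _ rfl (by
        rw [show prodW gn (subW w) = (w.map fun n => prodW gn (sub1 n)).prod from ?_]
        · exact h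
        clear h
        induction w with
        | nil => simp [subW]
        | cons a w ih =>
          rw [show subW (a :: w) = sub1 a ++ subW w from rfl, prodW_append, ih, List.map_cons,
            List.prod_cons])
      rcases hw with rfl | rfl | rfl | rfl | rfl | rfl | rfl | rfl | rfl | rfl | rfl | rfl | rfl | rfl
      · exact hC6 _ (by decide +kernel) (by decide +kernel)
      · exact hC6 _ (by decide +kernel) (by decide +kernel)
      · exact hC6 _ (by decide +kernel) (by decide +kernel)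
      all_goals
        refine one _ ?_
        simp only [List.map_cons, List.map_nil, List.prod_cons, List.prod_nil, mul_one, e0, e1, e2, e3, e4, e5]
      · rw [← mul_assoc, T.g_three]; exact Subgroup.one_mem _
      · rw [show cG * g * cG⁻¹ * (cG * g * cG⁻¹ * (cG * g * cG⁻¹)) = cG * (g * g * g) * cG⁻¹ by group,
          T.g_three, mul_one, mul_inv_cancel]; exact Subgroup.one_mem _
      · rw [mul_inv_cancel]; exact Subgroup.one_mem _
      · rw [show cG * g * cG⁻¹ * (cG * g⁻¹ * cG⁻¹) = 1 by group]; exact Subgroup.one_mem _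
      · rw [← mul_assoc, hagag]; exact hp2
      · rw [show x 4 * (cG * g * cG⁻¹ * (x 4 * (cG * g * cG⁻¹))) = cG * (x 3 * g * (x 3 * g)) * cG⁻¹ by
          conv_lhs => rw [← hc3]
          group, hagag, show cG * k (pr * pr) * cG⁻¹ = k pr by
          rw [mul_inv_eq_iff_eq_mul, hcG, T.prodW_ev rfl]
          exact F.ident (a := mmul (evW [0, 3]) (mp (pr * pr))) (b := mmul (mp pr) (evW [0, 3]))
            (by decide +kernel) (by rw [F.Φ_mul, F.Φ_k]) (by rw [F.Φ_mul, F.Φ_k])]
        exact Subgroup.mem_zpowers _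
      · rw [show g * (x 3 * (x 4 * (x 3 * (x 4 * (g⁻¹ * x 4))))) =
          g * (x 3 * (x 4 * (x 3 * x 4))) * g⁻¹ * x 4 by group, hzab, T.g_z, F.x_sq]
        exact Subgroup.one_mem _
      · rw [hzab, show g * (x 4 * (g⁻¹ * (x 4 * z))) = g * x 4 * g⁻¹ * (x 4 * z) by group, T.g_x4,
          (F.comm_z 4).mul_mul_mul_comm, F.x_sq, one_mul, hzz]
        exact Subgroup.one_mem _
      · rw [show cG * g * cG⁻¹ * (x 3 * (x 4 * (x 3 * (x 4 * (cG * g⁻¹ * cG⁻¹ * x 3))))) =
          cG * g * cG⁻¹ * (x 3 * (x 4 * (x 3 * x 4))) * cG * g⁻¹ * cG⁻¹ * x 3 by group, hzab,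
          show cG * g * cG⁻¹ * z * cG * g⁻¹ * cG⁻¹ * x 3 = cG * (g * (cG⁻¹ * (cG * z * cG⁻¹) * cG) * g⁻¹) * cG⁻¹ * x 3 by
            rw [hcz]; group,
          show cG⁻¹ * (cG * z * cG⁻¹) * cG = z by group, T.g_z, hc4, F.x_sq]
        exact Subgroup.one_mem _
      · rw [hzab, show cG * g * cG⁻¹ * (x 3 * (cG * g⁻¹ * cG⁻¹ * (x 3 * z))) =
          cG * (g * (cG⁻¹ * x 3 * cG) * g⁻¹) * cG⁻¹ * (x 3 * z) by group,
          show cG⁻¹ * x 3 * cG = x 4 by rw [← hc4]; group, T.g_x4,
          show cG * (x 4 * z) * cG⁻¹ = cG * x 4 * cG⁻¹ * (cG * z * cG⁻¹) by group, hc4, hcz,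
          (F.comm_z 3).mul_mul_mul_comm, F.x_sq, one_mul, hzz]
        exact Subgroup.one_mem _
      · have h4 := T.x_four
        rw [show subW [2, 5] = sub1 2 ++ sub1 5 from rfl, prodW_append, e2, e5] at h4
        simpa only [pow_succ, pow_zero, one_mul, mul_assoc] using h4
    sub := by
      intro w hw
      rw [show certL.subs = [[0], [1]] from rfl] at hw
      simp only [List.mem_cons, List.not_mem_nil, or_false] at hw
      rcases hw with rfl | rfl <;> (rw [prodW_cons, prodW_nil, mul_one]; refine ⟨e _, ?_, rfl⟩)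
      · show prodW gn (sub1 0) ∈ C
        rw [T.prodW_ev rfl]; exact F.Φ_mem _
      · show prodW gn (sub1 1) ∈ C
        rw [T.prodW_ev rfl]; exact F.Φ_mem _ }
  have huL : u ∈ L := Subgroup.mem_centralizer_singleton_iff.2 hur
  have hgen : π ⟨u, huL⟩ ∈ Subgroup.closure {y | ∃ g < certL.K, gq g = y} := by
    have hu : u ∈ Subgroup.closure ({k pr} ∪ {y | ∃ n < 6, prodW gn (sub1 n) = y}) := by
      rw [T.closure_L]; exact huL
    have key : ∀ y ∈ Subgroup.closure ({k pr} ∪ {y | ∃ n < 6, prodW gn (sub1 n) = y}), ∀ hy : y ∈ L,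
        π ⟨y, hy⟩ ∈ Subgroup.closure {y | ∃ g < certL.K, gq g = y} := by
      intro y hy
      induction hy using Subgroup.closure_induction with
      | one => intro h; exact (map_one π) ▸ Subgroup.one_mem _
      | mem y hy =>
        intro h
        rcases hy with rfl | ⟨n, hn, rfl⟩
        · rw [(hπ _).2 (Subgroup.mem_zpowers _)]; exact Subgroup.one_mem _
        · exact Subgroup.subset_closure ⟨n, hn, rfl⟩
      | mul a b ha hb iha ihb =>
        intro h
        have haL : a ∈ L := by rw [hL, ← T.closure_L]; exact ha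
        have hbL : b ∈ L := by rw [hL, ← T.closure_L]; exact hb
        rw [show (⟨a * b, h⟩ : L) = ⟨a, haL⟩ * ⟨b, hbL⟩ from rfl, map_mul]
        exact Subgroup.mul_mem _ (iha haL) (ihb hbL)
      | inv a ha iha =>
        intro h
        have haL : a ∈ L := by rw [hL, ← T.closure_L]; exact ha
        rw [show (⟨a⁻¹, h⟩ : L) = (⟨a, haL⟩ : L)⁻¹ from rfl, map_inv]
        exact Subgroup.inv_mem _ (iha haL)
    exact key u hu huL
  obtain ⟨i', hi', hmem⟩ := exists_coset certL_complete m hgen
  obtain ⟨n, hn, ex, hex, hrun⟩ := reps_cover i' hi'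
  have hlt : ∀ a ∈ reps.getD n [] ++ List.replicate ex 2, a < certL.K := by
    intro a ha
    rw [show certL.K = 6 from rfl]
    rcases List.mem_append.1 ha with ha | ha
    · rw [List.getD_eq_getElem _ _ (show n < reps.length from hn)] at ha
      have := List.all_eq_true.1 (List.all_eq_true.1 reps_lt _ (List.getElem_mem hn)) a ha
      exact Nat.le_of_ble_eq_true this
    · rw [List.eq_of_mem_replicate ha]; norm_num
  have h1 := (coreRep_run certL_complete m _ 0 certL_complete.N_pos hlt).2
  rw [hrun, show coreRep certL gq 0 = 1 by rw [coreRep, certL_complete.nd_zero, psi_zero], one_mul, hval] at h1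
  have h2 := ((C.subgroupOf L).map π).mul_mem hmem (((C.subgroupOf L).map π).inv_mem h1)
  rw [mul_inv_rev, inv_inv, ← mul_assoc, inv_mul_cancel_right, ← map_inv, ← map_mul] at h2
  obtain ⟨d, hd, hde⟩ := h2
  have hz' : u * (prodW gn (subW (reps.getD n [] ++ List.replicate ex 2)))⁻¹ ∈ C := by
    obtain ⟨v, hv, hve⟩ := (QuotientGroup.mk'_eq_mk' N).1 hde
    have hval' := congrArg Subtype.val hve
    simp only [Subgroup.coe_mul, Subgroup.coe_inv] at hval'
    rw [← hval']
    exact C.mul_mem hd ((T.cent.pair.hyp.mem_C _).2 (by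
      obtain ⟨j, hj⟩ := Subgroup.mem_zpowers_iff.1 (show (v : G) ∈ Subgroup.zpowers (k pr) from hv)
      rw [← hj]; exact ((show Commute (k pr) z from hrz).zpow_left j).eq))
  have hW : prodW gn (subW (reps.getD n [] ++ List.replicate ex 2)) =
      prodW gn (subW (reps.getD n [])) * g ^ ex := by
    rw [show ∀ a b : List ℕ, subW (a ++ b) = subW a ++ subW b from fun a b => List.flatMap_append,
      prodW_append, show subW (List.replicate ex 2) = (List.replicate ex [6]).flatten by
        simp [subW, List.flatMap, sub1], prodW_rep]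
    simp [g6]
  rw [hW] at hz'
  refine ⟨n, hn, ex, hex, ?_⟩
  set W := prodW gn (subW (reps.getD n [])) * g ^ ex
  have hcz' := (T.cent.pair.hyp.mem_C _).1 hz'
  rw [show i = u⁻¹ * z * u by rw [← hui]; group]
  calc u⁻¹ * z * u = u⁻¹ * (z * (u * W⁻¹)) * W := by group
    _ = u⁻¹ * (u * W⁻¹ * z) * W := by rw [hcz']
    _ = W⁻¹ * z * W := by group

/-- The presentation holds. -/
theorem rels_ok : ∀ r ∈ certM.rels, prodW gn r = 1 := by
  haveI := Fintype.ofFinite G
  obtain ⟨hr, hro, hrz⟩ := T.r_facts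
  obtain ⟨i0, hi0, hi0g⟩ := T.cent.exists_inv_g
  set i := i0 ^ 3 with hi
  have hiM : i ∈ M0 := M0.pow_mem hi0 3
  have hsq : Commute (i0 * i0) g := by
    refine mul_inv_eq_iff_eq_mul.1 ?_
    rw [show i0 * i0 * g * (i0 * i0)⁻¹ = i0 * (i0 * g * i0⁻¹) * i0⁻¹ by group, hi0g,
      show i0 * g⁻¹ * i0⁻¹ = (i0 * g * i0⁻¹)⁻¹ by group, hi0g, inv_inv]
  have hig : i * g * i⁻¹ = g⁻¹ := by
    rw [hi, show i0 ^ 3 * g * (i0 ^ 3)⁻¹ = i0 * (i0 * i0 * g * (i0 * i0)⁻¹) * i0⁻¹ by
      simp only [pow_succ, pow_zero, one_mul]; group, hsq.eq, mul_inv_cancel_right, hi0g]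
  have hg3 : g ^ 3 = 1 := T.cent.g_three
  have hi2 : i * i = 1 := by
    have hm : i0 * i0 ∈ Subgroup.zpowers g := T.cent.g_sc _ (M0.mul_mem hi0 hi0) hsq.eq
    rcases mem_zpowers_three hg3 hm with e | e | e <;>
      rw [hi, show i0 ^ 3 * i0 ^ 3 = (i0 * i0) ^ 3 by simp only [pow_succ, pow_zero, one_mul, mul_assoc], e]
    · simp
    · exact hg3
    · rw [← pow_mul, show 2 * 3 = 3 * 2 from rfl, pow_mul, hg3, one_pow]
  have hi1 : i ≠ 1 := by
    intro h
    rw [h, one_mul, inv_one, mul_one] at hig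
    refine T.cent.g_ne ?_
    have h2 : g * g = 1 := by nth_rewrite 1 [hig]; exact inv_mul_cancel g
    calc g = g * g * g := by rw [h2, one_mul]
      _ = 1 := T.g_three
  obtain ⟨n, hn, e, he, hie⟩ := T.invol_word (orderTwo_of hi1 hi2) (T.cent.R_comm hr hiM).symm
  set P := prodW gn (subW (reps.getD n [])) with hP
  set j := P⁻¹ * z * P with hj
  have hje : j = g ^ e * i * (g ^ e)⁻¹ := by rw [hie, hj]; group
  have hjw : prodW gn (jWord n) = j := by
    rw [jWord, prodW_append, prodW_append, T.prodW_invWord, T.ev_eq (w := wz) (m := mZ) rfl (by decide +kernel),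
      T.F.Φ_Z, mul_assoc]
    rw [hj, mul_assoc]
  have hjt : j * k pt * (j * k pt) = 1 := by
    have ht : Commute g (k pt) := T.g_comm (by decide +kernel)
    have hit : Commute i (k pt) := (T.cent.R_comm (T.stab pt (by decide +kernel)) hiM).symm
    have hc : Commute j (k pt) := hje ▸ ((ht.pow_left e).mul_left hit).mul_left (ht.pow_left e).inv_left
    rw [hc.symm.mul_mul_mul_comm]
    · rw [hje, show g ^ e * i * (g ^ e)⁻¹ * (g ^ e * i * (g ^ e)⁻¹) = g ^ e * (i * i) * (g ^ e)⁻¹ by group, hi2,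
        mul_one, mul_inv_cancel, one_mul, ← map_mul, show pt * pt = 1 by decide +kernel, map_one]
  have hjg : j * g * (j * g) = 1 := by
    have hii : i⁻¹ = i := inv_eq_of_mul_eq_one_right hi2
    rw [hje, show g ^ e * i * (g ^ e)⁻¹ * g * (g ^ e * i * (g ^ e)⁻¹ * g) =
      g ^ e * (i * g * i) * (g ^ e)⁻¹ * g by group]
    rw [show i * g * i = g⁻¹ by conv_lhs => arg 2; rw [← hii]
                                exact hig]
    group
  have key : ∀ w ∈ ([jWord n ++ [0] ++ jWord n ++ [0], jWord n ++ [6] ++ jWord n ++ [6]] : List (List ℕ)),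
      prodW gn w = 1 := by
    intro w hw
    simp only [List.mem_cons, List.not_mem_nil, or_false] at hw
    have g0 : gn 0 = k pt := T.F.Φ_k pt
    have g6 : gn 6 = g := rfl
    rcases hw with rfl | rfl <;>
      simp only [prodW_append, hjw, prodW_cons, prodW_nil, mul_one, g0, g6]
    · rw [mul_assoc (j * k pt)]; exact hjt
    · rw [mul_assoc (j * g)]; exact hjg
  interval_cases n
  case «12» =>
    intro r hr'
    rw [show certM.rels = R0 ++ [jWord 12 ++ [0] ++ jWord 12 ++ [0]] by decide +kernel,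
      List.mem_append, List.mem_singleton] at hr'
    rcases hr' with hr' | rfl
    · exact T.R0_ok r hr'
    · exact key _ List.mem_cons_self
  all_goals exfalso
  all_goals first
    | exact T.collapse certJ0_complete rfl rfl rfl (by decide +kernel) (by decide +kernel) key
    | exact T.collapse certJ1_complete rfl rfl rfl (by decide +kernel) (by decide +kernel) key
    | exact T.collapse certJ2_complete rfl rfl rfl (by decide +kernel) (by decide +kernel) key
    | exact T.collapse certJ3_complete rfl rfl rfl (by decide +kernel) (by decide +kernel) key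
    | exact T.collapse certJ4_complete rfl rfl rfl (by decide +kernel) (by decide +kernel) key
    | exact T.collapse certJ5_complete rfl rfl rfl (by decide +kernel) (by decide +kernel) key
    | exact T.collapse certJ6_complete rfl rfl rfl (by decide +kernel) (by decide +kernel) key
    | exact T.collapse certJ7_complete rfl rfl rfl (by decide +kernel) (by decide +kernel) key
    | exact T.collapse certJ8_complete rfl rfl rfl (by decide +kernel) (by decide +kernel) key
    | exact T.collapse certJ9_complete rfl rfl rfl (by decide +kernel) (by decide +kernel) key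
    | exact T.collapse certJ10_complete rfl rfl rfl (by decide +kernel) (by decide +kernel) key
    | exact T.collapse certJ11_complete rfl rfl rfl (by decide +kernel) (by decide +kernel) key
    | exact T.collapse certJ13_complete rfl rfl rfl (by decide +kernel) (by decide +kernel) key
    | exact T.collapse certJ14_complete rfl rfl rfl (by decide +kernel) (by decide +kernel) key

end Gens

end CfsgLib.J2Uniq
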